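import Cfsg.Agent.S2530

/-!
Moore's (Carmichael's) presentation of the alternating group `A_{k+3}` on `k+1` generators,
deduced from the Coxeter presentation of the symmetric group.
-/

set_option autoImplicit false

namespace Cfsg.Agent.Lib.Helper47

open CoxeterMatrix Cfsg.Agent.S2530

/-- Moore's relations for a family of `k+1` elements of a group. -/
structure Moore {G : Type*} [Group G] (k : ℕ) (g : Fin (k + 1) → G) : Prop where
  cube : ∀ i : Fin (k + 1), i.val = 0 → g i ^ 3 = 1
  sq : ∀ i : Fin (k + 1), 1 ≤ i.val → g i ^ 2 = 1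
  adj : ∀ i j : Fin (k + 1), j.val = i.val + 1 → (g i * g j) ^ 3 = 1
  far : ∀ i j : Fin (k + 1), i.val + 1 < j.val → (g i * g j) ^ 2 = 1

/-- Moore's relators. -/
def mooreRels (k : ℕ) : Set (FreeGroup (Fin (k + 1))) :=
  {g | ∃ i : Fin (k + 1), i.val = 0 ∧ g = FreeGroup.of i ^ 3} ∪
  {g | ∃ i : Fin (k + 1), 1 ≤ i.val ∧ g = FreeGroup.of i ^ 2} ∪
  {g | ∃ i j : Fin (k + 1), j.val = i.val + 1 ∧ g = (FreeGroup.of i * FreeGroup.of j) ^ 3} ∪
  {g | ∃ i j : Fin (k + 1), i.val + 1 < j.val ∧ g = (FreeGroup.of i * FreeGroup.of j) ^ 2}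

theorem Moore.lift_eq_one {G : Type*} [Group G] {k : ℕ} {g : Fin (k + 1) → G} (h : Moore k g) :
    ∀ r ∈ mooreRels k, FreeGroup.lift g r = 1 := by
  rintro r (((⟨i, hi, rfl⟩ | ⟨i, hi, rfl⟩) | ⟨i, j, hij, rfl⟩) | ⟨i, j, hij, rfl⟩)
  · simpa using h.cube i hi
  · simpa using h.sq i hi
  · simpa using h.adj i j hij
  · simpa using h.far i j hij

theorem pow_mul_swap {G : Type*} [Group G] (a b : G) (m : ℕ) (h : (a * b) ^ m = 1) :
    (b * a) ^ m = 1 := by
  have : b * a = a⁻¹ * (a * b) * a⁻¹⁻¹ := by group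
  rw [this, conj_pow, h]
  group

theorem Moore.inv {G : Type*} [Group G] {k : ℕ} {g : Fin (k + 1) → G} (h : Moore k g) :
    Moore k (fun i => (g i)⁻¹) where
  cube i hi := by rw [inv_pow, h.cube i hi, inv_one]
  sq i hi := by rw [inv_pow, h.sq i hi, inv_one]
  adj i j hij := by
    rw [← mul_inv_rev, inv_pow, pow_mul_swap _ _ _ (h.adj i j hij), inv_one]
  far i j hij := by
    rw [← mul_inv_rev, inv_pow, pow_mul_swap _ _ _ (h.far i j hij), inv_one]

theorem Moore.inv_eq {G : Type*} [Group G] {k : ℕ} {g : Fin (k + 1) → G} (h : Moore k g)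
    (i : Fin (k + 1)) (hi : 1 ≤ i.val) : (g i)⁻¹ = g i := by
  have := h.sq i hi
  rw [pow_two] at this
  exact inv_eq_of_mul_eq_one_left this

theorem Moore.key0 {G : Type*} [Group G] {k : ℕ} {g : Fin (k + 1) → G} (h : Moore k g)
    (i : Fin (k + 1)) : g i ^ (CoxeterMatrix.A (k + 2) 0 i.succ) = 1 := by
  rw [A_apply]
  have h0 : (0 : Fin (k + 2)) ≠ i.succ := (Fin.succ_ne_zero i).symm
  rw [if_neg h0]
  by_cases hi : i.val = 0
  · rw [if_pos (by right; simp [hi])]
    exact h.cube i hi
  · rw [if_neg (by simp only [Fin.val_zero, Fin.val_succ]; omega)]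
    exact h.sq i (by omega)

theorem Moore.key_lt {G : Type*} [Group G] {k : ℕ} {g : Fin (k + 1) → G} (h : Moore k g)
    (i j : Fin (k + 1)) (hij : i.val < j.val) :
    (g i * g j) ^ (CoxeterMatrix.A (k + 2) i.succ j.succ) = 1 := by
  rw [A_apply]
  have h0 : i.succ ≠ j.succ := by
    intro h'
    have := Fin.succ_inj.mp h'
    rw [this] at hij
    omega
  rw [if_neg h0]
  by_cases hi : j.val = i.val + 1
  · rw [if_pos (by right; simp [hi])]
    exact h.adj i j hi
  · rw [if_neg (by simp; omega)]
    exact h.far i j (by omega)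

theorem Moore.key {G : Type*} [Group G] {k : ℕ} {g : Fin (k + 1) → G} (h : Moore k g)
    (i j : Fin (k + 1)) (hij : i ≠ j) :
    ((g i)⁻¹ * g j) ^ (CoxeterMatrix.A (k + 2) i.succ j.succ) = 1 := by
  have hne : i.val ≠ j.val := fun h' => hij (Fin.ext h')
  rcases Nat.lt_or_gt_of_ne hne with hlt | hlt
  · rw [← h.inv_eq j (by omega), ← mul_inv_rev, inv_pow,
      pow_mul_swap _ _ _ (h.key_lt i j hlt), inv_one]
  · rw [h.inv_eq i (by omega), (CoxeterMatrix.A (k + 2)).symmetric]
    exact pow_mul_swap _ _ _ (h.key_lt j i hlt)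

/-- The group presented by Moore's relations. -/
abbrev MooreGroup (k : ℕ) := PresentedGroup (mooreRels k)

/-- generators of the presented group -/
def mx (k : ℕ) (i : Fin (k + 1)) : MooreGroup k := PresentedGroup.of i

theorem moore_mx (k : ℕ) : Moore k (mx k) where
  cube i hi := by
    have := PresentedGroup.one_of_mem (rels := mooreRels k) (x := FreeGroup.of i ^ 3)
      (Or.inl (Or.inl (Or.inl ⟨i, hi, rfl⟩)))
    rw [map_pow] at this
    exact this
  sq i hi := by
    have := PresentedGroup.one_of_mem (rels := mooreRels k) (x := FreeGroup.of i ^ 2)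
      (Or.inl (Or.inl (Or.inr ⟨i, hi, rfl⟩)))
    rw [map_pow] at this
    exact this
  adj i j hij := by
    have := PresentedGroup.one_of_mem (rels := mooreRels k)
      (x := (FreeGroup.of i * FreeGroup.of j) ^ 3) (Or.inl (Or.inr ⟨i, j, hij, rfl⟩))
    rw [map_pow, map_mul] at this
    exact this
  far i j hij := by
    have := PresentedGroup.one_of_mem (rels := mooreRels k)
      (x := (FreeGroup.of i * FreeGroup.of j) ^ 2) (Or.inr ⟨i, j, hij, rfl⟩)
    rw [map_pow, map_mul] at this
    exact this

/-- the hom out of the presented group given by a Moore family -/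
def mooreLift {G : Type*} [Group G] {k : ℕ} {g : Fin (k + 1) → G} (h : Moore k g) :
    MooreGroup k →* G := PresentedGroup.toGroup h.lift_eq_one

theorem mooreLift_mx {G : Type*} [Group G] {k : ℕ} {g : Fin (k + 1) → G} (h : Moore k g)
    (i : Fin (k + 1)) : mooreLift h (mx k i) = g i := PresentedGroup.toGroup.of _

/-- the inverting endomorphism -/
def mtheta (k : ℕ) : MooreGroup k →* MooreGroup k := mooreLift (moore_mx k).inv

theorem mtheta_mx (k : ℕ) (i : Fin (k + 1)) : mtheta k (mx k i) = (mx k i)⁻¹ :=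
  mooreLift_mx _ i

theorem mtheta_mtheta (k : ℕ) : (mtheta k).comp (mtheta k) = MonoidHom.id _ := by
  apply PresentedGroup.ext
  intro i
  change mtheta k (mtheta k (mx k i)) = mx k i
  rw [mtheta_mx, map_inv, mtheta_mx, inv_inv]

/-- the inverting automorphism -/
def mthetaE (k : ℕ) : MulAut (MooreGroup k) :=
  MonoidHom.toMulEquiv (mtheta k) (mtheta k) (mtheta_mtheta k) (mtheta_mtheta k)

theorem mthetaE_apply (k : ℕ) (q : MooreGroup k) : mthetaE k q = mtheta k q := rfl

theorem mthetaE_sq (k : ℕ) : mthetaE k * mthetaE k = 1 := by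
  ext q
  change mtheta k (mtheta k q) = q
  exact DFunLike.congr_fun (mtheta_mtheta k) q

/-- action of the group of order two -/
def mphi (k : ℕ) : ℤˣ →* MulAut (MooreGroup k) where
  toFun u := if u = 1 then 1 else mthetaE k
  map_one' := by simp
  map_mul' a b := by
    rcases Int.units_eq_one_or a with rfl | rfl <;> rcases Int.units_eq_one_or b with rfl | rfl
    · simp
    · simp
    · simp
    · have h1 : ((-1 : ℤˣ) = 1) = False := by decide
      simp [h1, mthetaE_sq]

theorem mphi_neg_one (k : ℕ) : mphi k (-1) = mthetaE k := by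
  have h1 : ((-1 : ℤˣ) = 1) = False := by decide
  simp [mphi, h1]

/-- the extension by the inverting automorphism -/
abbrev MooreExt (k : ℕ) := MooreGroup k ⋊[mphi k] ℤˣ

/-- images of the Coxeter generators -/
def mf (k : ℕ) : Fin (k + 2) → MooreExt k :=
  Fin.cases ⟨1, -1⟩ (fun i => ⟨(mx k i)⁻¹, -1⟩)

theorem mf_zero (k : ℕ) : mf k 0 = ⟨1, -1⟩ := rfl
theorem mf_succ (k : ℕ) (i : Fin (k + 1)) : mf k i.succ = ⟨(mx k i)⁻¹, -1⟩ := rfl

theorem mf_zero_zero (k : ℕ) : mf k 0 * mf k 0 = 1 := by
  rw [mf_zero]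
  ext <;> simp

theorem mf_zero_succ (k : ℕ) (i : Fin (k + 1)) :
    mf k 0 * mf k i.succ = SemidirectProduct.inl (mx k i) := by
  rw [mf_zero, mf_succ]
  ext
  · simp [mphi_neg_one, mthetaE_apply, mtheta_mx]
  · simp

theorem mf_succ_zero (k : ℕ) (i : Fin (k + 1)) :
    mf k i.succ * mf k 0 = SemidirectProduct.inl (mx k i)⁻¹ := by
  rw [mf_zero, mf_succ]
  ext
  · simp
  · simp

theorem mf_succ_succ (k : ℕ) (i j : Fin (k + 1)) :
    mf k i.succ * mf k j.succ = SemidirectProduct.inl ((mx k i)⁻¹ * mx k j) := by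
  rw [mf_succ, mf_succ]
  ext
  · simp [mphi_neg_one, mthetaE_apply, mtheta_mx]
  · simp

theorem mf_liftable (k : ℕ) : IsLiftable (CoxeterMatrix.A (k + 2)) (mf k) := by
  intro a b
  induction a using Fin.cases with
  | zero =>
    induction b using Fin.cases with
    | zero => rw [mf_zero_zero, one_pow]
    | succ j => rw [mf_zero_succ, ← map_pow, (moore_mx k).key0 j, map_one]
  | succ i =>
    induction b using Fin.cases with
    | zero =>
      rw [mf_succ_zero, ← map_pow, inv_pow, (CoxeterMatrix.A (k + 2)).symmetric,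
        (moore_mx k).key0 i, inv_one, map_one]
    | succ j =>
      rw [mf_succ_succ, ← map_pow]
      by_cases hij : i = j
      · subst hij
        simp
      · rw [(moore_mx k).key i j hij, map_one]

section coxeter
variable {k : ℕ} {W : Type*} [Group W] (cs : CoxeterSystem (CoxeterMatrix.A (k + 2)) W)

/-- The products `s₀ s_{i+1}` form a Moore family. -/
theorem moore_simple : Moore k (fun i : Fin (k + 1) => cs.simple 0 * cs.simple i.succ) := by
  have hA0 : ∀ i : Fin (k + 1), (cs.simple 0 * cs.simple i.succ) ^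
      (CoxeterMatrix.A (k + 2) 0 i.succ) = 1 := fun i => cs.simple_mul_simple_pow _ _
  have hM0 : ∀ i : Fin (k + 1), i.val = 0 → CoxeterMatrix.A (k + 2) 0 i.succ = 3 := by
    intro i hi
    rw [A_apply, if_neg (Fin.succ_ne_zero i).symm, if_pos (by right; simp [hi])]
  have hM1 : ∀ i : Fin (k + 1), 1 ≤ i.val → CoxeterMatrix.A (k + 2) 0 i.succ = 2 := by
    intro i hi
    rw [A_apply, if_neg (Fin.succ_ne_zero i).symm,
      if_neg (by simp only [Fin.val_zero, Fin.val_succ]; omega)]
  have hcomm : ∀ j : Fin (k + 1), 1 ≤ j.val →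
      cs.simple 0 * cs.simple j.succ = cs.simple j.succ * cs.simple 0 := by
    intro j hj
    apply comm_of_sq (cs.simple_mul_simple_self _) (cs.simple_mul_simple_self _)
    have := hA0 j
    rw [hM1 j hj] at this
    exact this
  have hconj : ∀ i j : Fin (k + 1), 1 ≤ j.val →
      cs.simple 0 * cs.simple i.succ * (cs.simple 0 * cs.simple j.succ)
        = cs.simple 0 * (cs.simple i.succ * cs.simple j.succ) * (cs.simple 0)⁻¹ := by
    intro i j hj
    rw [hcomm j hj, cs.inv_simple]
    group
  constructor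
  · intro i hi
    have := hA0 i
    rw [hM0 i hi] at this
    exact this
  · intro i hi
    have := hA0 i
    rw [hM1 i hi] at this
    exact this
  · intro i j hij
    rw [hconj i j (by omega), conj_pow]
    have : CoxeterMatrix.A (k + 2) i.succ j.succ = 3 := by
      rw [A_apply, if_neg (by
        intro h'
        have := Fin.succ_inj.mp h'
        rw [this] at hij
        omega), if_pos (by right; simp [hij])]
    have h2 := cs.simple_mul_simple_pow i.succ j.succ
    rw [this] at h2
    rw [h2]
    group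
  · intro i j hij
    rw [hconj i j (by omega), conj_pow]
    have : CoxeterMatrix.A (k + 2) i.succ j.succ = 2 := by
      rw [A_apply, if_neg (by
        intro h'
        have := Fin.succ_inj.mp h'
        rw [this] at hij
        omega), if_neg (by simp only [Fin.val_succ]; omega)]
    have h2 := cs.simple_mul_simple_pow i.succ j.succ
    rw [this] at h2
    rw [h2]
    group

/-- the map from the presented group to the Coxeter group -/
noncomputable def mrho : MooreGroup k →* W := mooreLift (moore_simple cs)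

theorem mrho_mx (i : Fin (k + 1)) : mrho cs (mx k i) = cs.simple 0 * cs.simple i.succ :=
  mooreLift_mx _ i

/-- the map from the Coxeter group to the extension -/
noncomputable def mpsi : W →* MooreExt k := cs.lift ⟨mf k, mf_liftable k⟩

theorem mpsi_simple (i : Fin (k + 2)) : mpsi cs (cs.simple i) = mf k i :=
  cs.lift_apply_simple _ i

theorem mpsi_mrho : (mpsi cs).comp (mrho cs) = SemidirectProduct.inl := by
  apply PresentedGroup.ext
  intro i
  change mpsi cs (mrho cs (mx k i)) = SemidirectProduct.inl (mx k i)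
  rw [mrho_mx, map_mul, mpsi_simple, mpsi_simple, mf_zero_succ]

theorem mrho_injective : Function.Injective (mrho cs) := by
  intro a b hab
  have h := DFunLike.congr_fun (mpsi_mrho cs)
  have ha := h a
  have hb := h b
  simp only [MonoidHom.comp_apply] at ha hb
  rw [hab, hb] at ha
  exact (SemidirectProduct.inl_injective ha).symm

theorem mrho_cover (w : W) : ∃ q : MooreGroup k, w = mrho cs q ∨ w = cs.simple 0 * mrho cs q := by
  induction w using cs.simple_induction_left with
  | one => exact ⟨1, Or.inl (map_one _).symm⟩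
  | mul_simple_left w a ih =>
    obtain ⟨q, hq | hq⟩ := ih
    · induction a using Fin.cases with
      | zero => exact ⟨q, Or.inr (by rw [hq])⟩
      | succ j =>
        refine ⟨mx k j * q, Or.inr ?_⟩
        rw [map_mul, mrho_mx, hq, ← mul_assoc, ← mul_assoc, cs.simple_mul_simple_self, one_mul]
    · induction a using Fin.cases with
      | zero =>
        refine ⟨q, Or.inl ?_⟩
        rw [hq, ← mul_assoc, cs.simple_mul_simple_self, one_mul]
      | succ j =>
        refine ⟨(mx k j)⁻¹ * q, Or.inl ?_⟩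
        rw [map_mul, map_inv, mrho_mx, hq, mul_inv_rev, cs.inv_simple, cs.inv_simple, mul_assoc]

end coxeter

/-! ### the alternating group -/

/-- the standard generators `(0 1)(i+1 i+2)` of `A_{k+3}` -/
def altGenPerm (k : ℕ) (i : Fin (k + 1)) : Equiv.Perm (Fin (k + 3)) :=
  Equiv.swap 0 1 * Equiv.swap i.succ.castSucc i.succ.succ

theorem altGenPerm_mem (k : ℕ) (i : Fin (k + 1)) :
    altGenPerm k i ∈ alternatingGroup (Fin (k + 3)) := by
  rw [Equiv.Perm.mem_alternatingGroup, altGenPerm, map_mul, Equiv.Perm.sign_swap (by simp),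
    Equiv.Perm.sign_swap (Fin.castSucc_lt_succ).ne]
  rfl

/-- the standard generators as elements of the alternating group -/
def altGen (k : ℕ) (i : Fin (k + 1)) : alternatingGroup (Fin (k + 3)) :=
  ⟨altGenPerm k i, altGenPerm_mem k i⟩

theorem exists_mooreEquiv (k : ℕ) :
    ∃ e : MooreGroup k ≃* alternatingGroup (Fin (k + 3)), ∀ i, e (mx k i) = altGen k i := by
  obtain ⟨cs, hcs⟩ := Cfsg.Agent.S2530.result (k + 2)
  have hgen : ∀ i : Fin (k + 1), mrho cs (mx k i) = altGenPerm k i := by
    intro i
    rw [mrho_mx, hcs, hcs, altGenPerm]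
    rfl
  have hsign : ∀ q : MooreGroup k, Equiv.Perm.sign (mrho cs q) = 1 := by
    intro q
    have : (Equiv.Perm.sign.comp (mrho cs)) = 1 := by
      apply PresentedGroup.ext
      intro i
      change Equiv.Perm.sign (mrho cs (mx k i)) = 1
      rw [hgen]
      exact Equiv.Perm.mem_alternatingGroup.mp (altGenPerm_mem k i)
    exact DFunLike.congr_fun this q
  let g : MooreGroup k →* alternatingGroup (Fin (k + 3)) :=
    (mrho cs).codRestrict (alternatingGroup (Fin (k + 3)))
      (fun q => Equiv.Perm.mem_alternatingGroup.mpr (hsign q))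
  have hg : ∀ q, ((g q : alternatingGroup (Fin (k + 3))) : Equiv.Perm (Fin (k + 3))) = mrho cs q :=
    fun q => rfl
  have hbij : Function.Bijective g := by
    constructor
    · intro a b hab
      apply mrho_injective cs
      rw [← hg, ← hg, hab]
    · rintro ⟨σ, hσ⟩
      obtain ⟨q, hq | hq⟩ := mrho_cover cs σ
      · exact ⟨q, Subtype.ext ((hg q).trans hq.symm)⟩
      · exfalso
        rw [Equiv.Perm.mem_alternatingGroup, hq, map_mul, hsign, hcs,
          Equiv.Perm.sign_swap (Fin.castSucc_lt_succ).ne] at hσ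
        revert hσ
        decide
  refine ⟨MulEquiv.ofBijective g hbij, fun i => ?_⟩
  apply Subtype.ext
  change ((g (mx k i) : alternatingGroup (Fin (k + 3))) : Equiv.Perm (Fin (k + 3))) = _
  rw [hg, hgen]
  rfl

/-- **Universal property** of `A_{k+3}`: a Moore family in a group `G` defines a homomorphism. -/
theorem exists_hom_of_moore {G : Type*} [Group G] {k : ℕ} {g : Fin (k + 1) → G}
    (h : Moore k g) :
    ∃ f : alternatingGroup (Fin (k + 3)) →* G, ∀ i, f (altGen k i) = g i := by
  obtain ⟨e, he⟩ := exists_mooreEquiv k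
  refine ⟨(mooreLift h).comp e.symm.toMonoidHom, fun i => ?_⟩
  change mooreLift h (e.symm (altGen k i)) = g i
  rw [← he, e.symm_apply_apply, mooreLift_mx]

end Cfsg.Agent.Lib.Helper47
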