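import Cfsg.Agent.Lib.Helper47.AltEmbed

/-!
Embedding `A₄`, `S₄`, `A₅` in a group from generators and relations.
-/

set_option autoImplicit false

namespace Cfsg.Agent.Lib.Helper47

open CoxeterMatrix Cfsg.Agent.S2530

/-! ### `A₄` -/

set_option maxRecDepth 100000 in
theorem A4_fact : ∀ σ : alternatingGroup (Fin 4), σ ≠ 1 →
    ∃ a b : alternatingGroup (Fin 4), a * σ * a⁻¹ = altGen 1 1 ∨
      a * σ * a⁻¹ * (b * σ⁻¹ * b⁻¹) = altGen 1 1 := by decide +kernel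

theorem A4_normal (N : Subgroup (alternatingGroup (Fin 4))) [hN : N.Normal]
    (h : altGen 1 1 ∉ N) : N = ⊥ := by
  rw [eq_bot_iff]
  intro σ hσ
  rw [Subgroup.mem_bot]
  by_contra hne
  obtain ⟨a, b, h1 | h1⟩ := A4_fact σ hne
  · exact h (h1 ▸ hN.conj_mem σ hσ a)
  · exact h (h1 ▸ N.mul_mem (hN.conj_mem σ hσ a) (hN.conj_mem _ (N.inv_mem hσ) b))

/-- `x³ = y² = (xy)³ = 1`, `y ≠ 1` gives an embedding of `A₄`. -/
theorem exists_injective_hom_A4 {G : Type*} [Group G] (x y : G) (hx : x ^ 3 = 1) (hy : y ^ 2 = 1)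
    (hxy : (x * y) ^ 3 = 1) (hy1 : y ≠ 1) :
    ∃ f : alternatingGroup (Fin 4) →* G, Function.Injective f ∧
      f (altGen 1 0) = x ∧ f (altGen 1 1) = y := by
  have hm : Moore 1 ![x, y] := by
    constructor
    · intro i hi
      fin_cases i <;> simp at hi
      exact hx
    · intro i hi
      fin_cases i <;> simp at hi
      exact hy
    · intro i j hij
      fin_cases i <;> fin_cases j <;> simp at hij
      exact hxy
    · intro i j hij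
      fin_cases i <;> fin_cases j <;> simp at hij
  obtain ⟨f, hf⟩ := exists_hom_of_moore hm
  refine ⟨f, ?_, hf 0, hf 1⟩
  rw [← MonoidHom.ker_eq_bot_iff]
  apply A4_normal
  intro h
  apply hy1
  have h1 := hf 1
  rw [MonoidHom.mem_ker.mp h] at h1
  exact h1.symm

/-! ### `S₄` -/

set_option maxRecDepth 100000 in
theorem S4_fact : ∀ σ : Equiv.Perm (Fin 4), σ ≠ 1 →
    ∃ a b : Equiv.Perm (Fin 4), a * σ * a⁻¹ = Equiv.swap 0 1 * Equiv.swap 2 3 ∨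
      a * σ * a⁻¹ * (b * σ * b⁻¹) = Equiv.swap 0 1 * Equiv.swap 2 3 := by decide +kernel

theorem S4_normal (N : Subgroup (Equiv.Perm (Fin 4))) [hN : N.Normal]
    (h : Equiv.swap 0 1 * Equiv.swap 2 3 ∉ N) : N = ⊥ := by
  rw [eq_bot_iff]
  intro σ hσ
  rw [Subgroup.mem_bot]
  by_contra hne
  obtain ⟨a, b, h1 | h1⟩ := S4_fact σ hne
  · exact h (h1 ▸ hN.conj_mem σ hσ a)
  · exact h (h1 ▸ N.mul_mem (hN.conj_mem σ hσ a) (hN.conj_mem σ hσ b))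

/-- Three involutions with `(s₁s₂)³ = (s₂s₃)³ = (s₁s₃)² = 1`, `s₁s₃ ≠ 1` give an embedding
of `S₄`. -/
theorem exists_injective_hom_S4 {G : Type*} [Group G] (s₁ s₂ s₃ : G) (h₁ : s₁ ^ 2 = 1)
    (h₂ : s₂ ^ 2 = 1) (h₃ : s₃ ^ 2 = 1) (h₁₂ : (s₁ * s₂) ^ 3 = 1) (h₂₃ : (s₂ * s₃) ^ 3 = 1)
    (h₁₃ : (s₁ * s₃) ^ 2 = 1) (hne : s₁ * s₃ ≠ 1) :
    ∃ f : Equiv.Perm (Fin 4) →* G, Function.Injective f ∧
      f (Equiv.swap 0 1) = s₁ ∧ f (Equiv.swap 1 2) = s₂ ∧ f (Equiv.swap 2 3) = s₃ := by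
  obtain ⟨cs, hcs⟩ := Cfsg.Agent.S2530.result 3
  have hl : IsLiftable (CoxeterMatrix.A 3) ![s₁, s₂, s₃] := by
    intro i j
    fin_cases i <;> fin_cases j
    · change (s₁ * s₁) ^ 1 = 1
      rw [pow_one, ← pow_two, h₁]
    · exact h₁₂
    · exact h₁₃
    · exact pow_mul_swap _ _ _ h₁₂
    · change (s₂ * s₂) ^ 1 = 1
      rw [pow_one, ← pow_two, h₂]
    · exact h₂₃
    · exact pow_mul_swap _ _ _ h₁₃
    · exact pow_mul_swap _ _ _ h₂₃
    · change (s₃ * s₃) ^ 1 = 1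
      rw [pow_one, ← pow_two, h₃]
  have hf : ∀ i, cs.lift ⟨_, hl⟩ (cs.simple i) = ![s₁, s₂, s₃] i := cs.lift_apply_simple hl
  have e0 : cs.lift ⟨_, hl⟩ (Equiv.swap 0 1) = s₁ := by
    have := hf 0
    rw [hcs] at this
    exact this
  have e1 : cs.lift ⟨_, hl⟩ (Equiv.swap 1 2) = s₂ := by
    have := hf 1
    rw [hcs] at this
    exact this
  have e2 : cs.lift ⟨_, hl⟩ (Equiv.swap 2 3) = s₃ := by
    have := hf 2
    rw [hcs] at this
    exact this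
  refine ⟨cs.lift ⟨_, hl⟩, ?_, e0, e1, e2⟩
  rw [← MonoidHom.ker_eq_bot_iff]
  apply S4_normal
  intro h
  apply hne
  have h' := MonoidHom.mem_ker.mp h
  rw [map_mul, e0, e2] at h'
  exact h'

/-! ### `A₅` -/

/-- `x₀³ = x₁² = x₂² = (x₀x₁)³ = (x₁x₂)³ = (x₀x₂)² = 1`, `x₁ ≠ 1` give an embedding of `A₅`. -/
theorem exists_injective_hom_A5 {G : Type*} [Group G] (x₀ x₁ x₂ : G) (h₀ : x₀ ^ 3 = 1)
    (h₁ : x₁ ^ 2 = 1) (h₂ : x₂ ^ 2 = 1) (h₀₁ : (x₀ * x₁) ^ 3 = 1) (h₁₂ : (x₁ * x₂) ^ 3 = 1)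
    (h₀₂ : (x₀ * x₂) ^ 2 = 1) (hne : x₁ ≠ 1) :
    ∃ f : alternatingGroup (Fin 5) →* G, Function.Injective f ∧
      f (altGen 2 0) = x₀ ∧ f (altGen 2 1) = x₁ ∧ f (altGen 2 2) = x₂ := by
  have hm : Moore 2 ![x₀, x₁, x₂] := by
    constructor
    · intro i hi
      fin_cases i <;> simp at hi
      exact h₀
    · intro i hi
      fin_cases i <;> simp at hi
      · exact h₁
      · exact h₂
    · intro i j hij
      fin_cases i <;> fin_cases j <;> simp at hij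
      · exact h₀₁
      · exact h₁₂
    · intro i j hij
      fin_cases i <;> fin_cases j <;> simp at hij
      exact h₀₂
  obtain ⟨f, hf, hf'⟩ := exists_injective_hom_of_moore (le_refl 2) hm ⟨1, hne⟩
  exact ⟨f, hf, hf' 0, hf' 1, hf' 2⟩

end Cfsg.Agent.Lib.Helper47
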