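import Mathlib

set_option autoImplicit false

namespace Cfsg.Agent.Lib.Helper47

open Matrix Matrix.SpecialLinearGroup MulAction
open scoped LinearAlgebra.Projectivization Pointwise commutatorElement

variable {ι F : Type*} [DecidableEq ι] [Fintype ι] [Field F]

theorem transvection_smul_apply {i j : ι} (hij : i ≠ j) (b : F) (w : ι → F) (k : ι) :
    (transvection hij b • w) k = w k + if k = i then b * w j else 0 := by
  simp [Matrix.SpecialLinearGroup.smul_def, transvection_coe, add_mulVec, single_mulVec_eq,
    Pi.single_apply]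

theorem diag2n_smul_apply {i j : ι} (hij : i ≠ j) (a : F) (ha : a ≠ 0) (w : ι → F) (k : ι) :
    (diag2n hij a ha • w) k = (if k = i then a else if k = j then a⁻¹ else 1) * w k := by
  simp [Matrix.SpecialLinearGroup.smul_def, diag2n_coe, mulVec_diagonal]

theorem sl_ext_smul {A B : SpecialLinearGroup ι F} (h : ∀ w : ι → F, A • w = B • w) : A = B :=
  Subtype.ext <| ext_iff_smul.2 h

theorem diag2n_decompose {i j : ι} (hij : i ≠ j) (a : F) (ha : a ≠ 0) :
    diag2n hij a ha = transvection hij a * transvection hij.symm (-a⁻¹) * transvection hij a *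
      transvection hij (-1) * transvection hij.symm 1 * transvection hij (-1) := by
  apply sl_ext_smul
  intro w
  funext k
  simp only [mul_smul, transvection_smul_apply, diag2n_smul_apply]
  by_cases hki : k = i
  · subst hki
    simp [hij, hij.symm]
    field_simp
    ring
  · by_cases hkj : k = j
    · subst hkj
      simp [hij, hij.symm]
      field_simp
      ring
    · simp [hki, hkj]

/-- `SL_n(F)` is generated by elementary transvections. -/
theorem transvection_induction [Nontrivial ι] (P : SpecialLinearGroup ι F → Prop)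
    (htransvec : ∀ (i j : ι) (h : i ≠ j) (c : F), P (transvection h c))
    (hmul : ∀ A B, P A → P B → P (A * B)) (A : SpecialLinearGroup ι F) : P A := by
  refine diagonal_transvection_induction' P _ (fun i j hij c hc ↦ ?_) htransvec hmul
  rw [diag2n_decompose hij c hc]
  refine hmul _ _ (hmul _ _ (hmul _ _ (hmul _ _ (hmul _ _ ?_ ?_) ?_) ?_) ?_) ?_
  all_goals exact htransvec _ _ _ _

theorem transvection_eq_commutator {i j k : ι} (hij : i ≠ j) (hik : i ≠ k) (hkj : k ≠ j) (c : F) :
    transvection hij c = ⁅transvection hik c, transvection hkj (1 : F)⁆ := by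
  rw [commutatorElement_def, transvection_inv, transvection_inv]
  apply sl_ext_smul
  intro w
  funext l
  simp only [mul_smul, transvection_smul_apply]
  by_cases hli : l = i
  · subst hli
    simp [hik, hij.symm, hik.symm, hkj.symm]
    ring
  · by_cases hlk : l = k
    · subst hlk
      simp [hij.symm, hik.symm, hkj.symm]
    · simp [hli, hlk]

/-- `SL_n(F)` is perfect for `n ≥ 3`. -/
theorem commutator_SL_eq_top (h3 : 3 ≤ Fintype.card ι) :
    commutator (SpecialLinearGroup ι F) = ⊤ := by
  have : Nontrivial ι := Fintype.one_lt_card_iff_nontrivial.mp (by omega)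
  refine le_antisymm le_top (fun A _ ↦ transvection_induction _ ?_ (fun _ _ ↦ mul_mem) A)
  intro i j hij c
  obtain ⟨k, hk⟩ : ∃ k, k ∉ ({i, j} : Finset ι) := by
    by_contra hcon
    push Not at hcon
    have h1 : (Finset.univ : Finset ι) ⊆ {i, j} := fun x _ => hcon x
    have h2 := Finset.card_le_card h1
    have h3' : ({i, j} : Finset ι).card ≤ 2 := Finset.card_le_two
    rw [Finset.card_univ] at h2
    omega
  simp only [Finset.mem_insert, Finset.mem_singleton, not_or] at hk
  rw [transvection_eq_commutator hij (Ne.symm hk.1) hk.2 c]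
  exact Subgroup.commutator_mem_commutator (Subgroup.mem_top _) (Subgroup.mem_top _)

theorem iSup_lineStab_eq_top [Nontrivial ι] :
    (⨆ p : ℙ F (ι → F), lineStab p.submodule) = (⊤ : Subgroup (SpecialLinearGroup ι F)) := by
  refine le_antisymm le_top (fun A _ ↦ transvection_induction _ ?_ (fun _ _ ↦ mul_mem) A)
  intro i j hij c
  have h1 := SL2Gen.transvection_mem_lineStab hij c
  rw [← Projectivization.submodule_mk (K := F) _ (Pi.single_ne_zero_iff.2 one_ne_zero)] at h1
  exact Subgroup.mem_iSup_of_mem _ h1

/-- The Iwasawa structure on `SL_n(F)` acting on projective space. -/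
noncomputable def iwasawaSL [Nontrivial ι] :
    IwasawaStructure (SpecialLinearGroup ι F) (ℙ F (ι → F)) where
  T p := lineStab p.submodule
  is_comm p := by
    rw [← Projectivization.mk_rep p, Projectivization.submodule_mk]
    exact lineStab_isMulCommutative_of_span p.rep p.rep_nonzero
  is_conj g p := by
    rw [PSL.smul_submodule, Matrix.SpecialLinearGroup.lineStab_smul]
  is_generator := iSup_lineStab_eq_top

/-- A normal subgroup of `SL_n(F)` is central or contains the commutator subgroup. -/
theorem normal_le_center_or_commutator_le [Nontrivial ι] (N : Subgroup (SpecialLinearGroup ι F))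
    [N.Normal] : N ≤ Subgroup.center (SpecialLinearGroup ι F) ∨
      commutator (SpecialLinearGroup ι F) ≤ N := by
  by_cases h : MulAction.fixedPoints N (ℙ F (ι → F)) = Set.univ
  · left
    intro m hm
    rw [← Projectivization.SL_mulAction_ker, MonoidHom.mem_ker]
    ext p
    have hp : p ∈ MulAction.fixedPoints N (ℙ F (ι → F)) := h ▸ Set.mem_univ p
    exact hp ⟨m, hm⟩
  · right
    exact (iwasawaSL (ι := ι) (F := F)).commutator_le N h

theorem iSup_iwasawaT_eq_top [Nontrivial ι] :
    iSup (PSL.iwasawaT (F := F) (ι := ι)) = ⊤ := by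
  have step1 : iSup (PSL.iwasawaT (F := F) (ι := ι)) =
      Subgroup.map (QuotientGroup.mk' (Subgroup.center (Matrix.SpecialLinearGroup ι F)))
        (⨆ p : ℙ F (ι → F),
          Matrix.SpecialLinearGroup.lineStab (F := F) (ι := ι) p.submodule) := by
    rw [Subgroup.map_iSup]
  rw [step1, iSup_lineStab_eq_top]
  exact Subgroup.map_top_of_surjective _ (QuotientGroup.mk'_surjective _)

/-- The Iwasawa structure on `PSL_n(F)`. -/
noncomputable def iwasawaPSL [Nontrivial ι] :
    IwasawaStructure (Matrix.ProjectiveSpecialLinearGroup ι F) (ℙ F (ι → F)) where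
  T := PSL.iwasawaT
  is_comm p := by
    have hSL : IsMulCommutative (lineStab (F := F) (ι := ι) p.submodule) := by
      rw [← Projectivization.mk_rep p, Projectivization.submodule_mk]
      exact lineStab_isMulCommutative_of_span p.rep p.rep_nonzero
    exact Subgroup.map_isMulCommutative _ _
  is_conj g p := by
    obtain ⟨g_SL, rfl⟩ := QuotientGroup.mk_surjective g
    rw [Matrix.ProjectiveSpecialLinearGroup.smul_proj_mk]
    change Subgroup.map _ _ = _
    rw [PSL.smul_submodule, Matrix.SpecialLinearGroup.lineStab_smul,
      PSL.iwasawaT_map_conj]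
  is_generator := iSup_iwasawaT_eq_top

/-- `PSL_n(F)` is simple as soon as `SL_n(F)` is perfect (and `n ≥ 2`). -/
theorem isSimpleGroup_PSL_of_perfect [Nontrivial ι]
    (hperf : commutator (SpecialLinearGroup ι F) = ⊤) :
    IsSimpleGroup (Matrix.ProjectiveSpecialLinearGroup ι F) := by
  have h1 : Group.IsPerfect (SpecialLinearGroup ι F) := ⟨hperf⟩
  have h2 : Group.IsPerfect (Matrix.ProjectiveSpecialLinearGroup ι F) := inferInstance
  exact MulAction.IwasawaStructure.isSimpleGroup h2.commutator_eq_top iwasawaPSL inferInstance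

/-- `PSL_n(F)` is simple for `n ≥ 3`, any field. -/
theorem isSimpleGroup_PSL (h3 : 3 ≤ Fintype.card ι) :
    IsSimpleGroup (Matrix.ProjectiveSpecialLinearGroup ι F) := by
  have : Nontrivial ι := Fintype.one_lt_card_iff_nontrivial.mp (by omega)
  exact isSimpleGroup_PSL_of_perfect (commutator_SL_eq_top h3)

end Cfsg.Agent.Lib.Helper47
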