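import Cfsg.Agent.Lib.Helper47.AltPres

/-!
Embedding alternating groups via Moore families, using simplicity.
-/

set_option autoImplicit false

namespace Cfsg.Agent.Lib.Helper47

/-- A nontrivial Moore family of length `k+1 ≥ 3` gives an embedding of `A_{k+3}`. -/
theorem exists_injective_hom_of_moore {G : Type*} [Group G] {k : ℕ} (hk : 2 ≤ k)
    {g : Fin (k + 1) → G} (h : Moore k g) (hne : ∃ i, g i ≠ 1) :
    ∃ f : alternatingGroup (Fin (k + 3)) →* G, Function.Injective f ∧
      ∀ i, f (altGen k i) = g i := by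
  obtain ⟨f, hf⟩ := exists_hom_of_moore h
  refine ⟨f, ?_, hf⟩
  have hs : IsSimpleGroup (alternatingGroup (Fin (k + 3))) :=
    alternatingGroup.isSimpleGroup (by simp; omega)
  rcases f.normal_ker.eq_bot_or_eq_top with h1 | h1
  · exact (MonoidHom.ker_eq_bot_iff f).mp h1
  · exfalso
    obtain ⟨i, hi⟩ := hne
    apply hi
    rw [← hf i]
    have : altGen k i ∈ f.ker := by rw [h1]; trivial
    exact this

/-- A group of order `(k+3)!/2` containing a nontrivial Moore family is `A_{k+3}`. -/
theorem nonempty_equiv_of_moore {G : Type*} [Group G] {k : ℕ} (hk : 2 ≤ k)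
    {g : Fin (k + 1) → G} (h : Moore k g) (hne : ∃ i, g i ≠ 1)
    (hcard : Nat.card G = (k + 3).factorial / 2) :
    Nonempty (G ≃* alternatingGroup (Fin (k + 3))) := by
  obtain ⟨f, hf, -⟩ := exists_injective_hom_of_moore hk h hne
  have hA : Nat.card (alternatingGroup (Fin (k + 3))) = (k + 3).factorial / 2 := by
    rw [nat_card_alternatingGroup]; simp
  have hpos : 0 < (k + 3).factorial / 2 := by
    rw [← hA]; exact Nat.card_pos
  have : Finite G := Nat.finite_of_card_ne_zero (by omega)
  have hbij : Function.Bijective f := by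
    rw [Nat.bijective_iff_injective_and_card]
    exact ⟨hf, by rw [hA, hcard]⟩
  exact ⟨(MulEquiv.ofBijective f hbij).symm⟩

end Cfsg.Agent.Lib.Helper47
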