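import Mathlib
import Cfsg.Agent.Lib.Helper11.Four
import Cfsg.Agent.Lib.Helper73.ClassSize

set_option autoImplicit false

namespace Cfsg.Agent.Lib.Helper47

open Cfsg.Agent.Lib.Helper11

variable {G : Type*} [Group G]

/-- ordered pairs of distinct commuting involutions -/
def IsInvPair (p : G × G) : Prop :=
  p.1 ≠ 1 ∧ p.2 ≠ 1 ∧ p.1 ≠ p.2 ∧ p.1 * p.1 = 1 ∧ p.2 * p.2 = 1 ∧ p.1 * p.2 = p.2 * p.1

/-- the four-group spanned by a pair -/
def pairFour (p : {p : G × G // IsInvPair p}) : {V : Subgroup G // IsKleinFour V} :=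
  ⟨fourSub p.1.1 p.1.2 p.2.2.2.2.2.2 p.2.2.2.2.1 p.2.2.2.2.2.1,
    isKleinFour_fourSub _ _ _ _ _ p.2.1 p.2.2.1 p.2.2.2.1⟩

theorem fourSub_eq_of_mem (V : Subgroup G) (hV : IsKleinFour V) (a b : G)
    (hab : a * b = b * a) (ha : a * a = 1) (hb : b * b = 1)
    (ha1 : a ≠ 1) (hb1 : b ≠ 1) (hne : a ≠ b) (haV : a ∈ V) (hbV : b ∈ V) :
    fourSub a b hab ha hb = V := by
  have hK := isKleinFour_fourSub a b hab ha hb ha1 hb1 hne
  have hle : fourSub a b hab ha hb ≤ V := by
    intro x hx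
    rcases mem_fourSub.mp hx with rfl | rfl | rfl | rfl
    · exact V.one_mem
    · exact haV
    · exact hbV
    · exact V.mul_mem haV hbV
  have hfin : Finite V := Nat.finite_of_card_ne_zero (by rw [hV.card_four]; norm_num)
  exact Subgroup.eq_of_le_of_card_ge hle (by rw [hK.card_four, hV.card_four])

theorem card_fin_four_pairs : ∀ c : Fin 4,
    Fintype.card {p : Fin 4 × Fin 4 // p.1 ≠ c ∧ p.2 ≠ c ∧ p.1 ≠ p.2} = 6 := by
  decide

theorem card_pairs_in (V : Subgroup G) (hV : IsKleinFour V) :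
    Nat.card {p : V × V // p.1 ≠ 1 ∧ p.2 ≠ 1 ∧ p.1 ≠ p.2} = 6 := by
  classical
  have hfin : Finite V := Nat.finite_of_card_ne_zero (by rw [hV.card_four]; norm_num)
  have e : V ≃ Fin 4 := (Finite.equivFinOfCardEq hV.card_four)
  have e2 : {p : V × V // p.1 ≠ 1 ∧ p.2 ≠ 1 ∧ p.1 ≠ p.2} ≃
      {p : Fin 4 × Fin 4 // p.1 ≠ e 1 ∧ p.2 ≠ e 1 ∧ p.1 ≠ p.2} :=
    (Equiv.prodCongr e e).subtypeEquiv (by
      rintro ⟨a, b⟩
      simp [e.injective.eq_iff])
  rw [Nat.card_congr e2, Nat.card_eq_fintype_card, card_fin_four_pairs]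

theorem card_fiber (V : {V : Subgroup G // IsKleinFour V}) :
    Nat.card {p : {p : G × G // IsInvPair p} // pairFour p = V} = 6 := by
  obtain ⟨V, hV⟩ := V
  rw [← card_pairs_in V hV]
  apply Nat.card_congr
  refine
    { toFun := fun p => ⟨(⟨p.1.1.1, ?_⟩, ⟨p.1.1.2, ?_⟩), ?_⟩
      invFun := fun p => ⟨⟨(p.1.1.1, p.1.2.1), ?_⟩, ?_⟩
      left_inv := ?_
      right_inv := ?_ }
  · have h := congrArg Subtype.val p.2
    simp only [pairFour] at h
    exact h.le (mem_fourSub.mpr (Or.inr (Or.inl rfl)))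
  · have h := congrArg Subtype.val p.2
    simp only [pairFour] at h
    exact h.le (mem_fourSub.mpr (Or.inr (Or.inr (Or.inl rfl))))
  · obtain ⟨⟨⟨a, b⟩, h1, h2, h3, -⟩, -⟩ := p
    refine ⟨?_, ?_, ?_⟩
    · intro h; exact h1 (congrArg Subtype.val h)
    · intro h; exact h2 (congrArg Subtype.val h)
    · intro h; exact h3 (congrArg Subtype.val h)
  · obtain ⟨⟨⟨a, ha⟩, ⟨b, hb⟩⟩, h1, h2, h3⟩ := p
    refine ⟨?_, ?_, ?_, kleinFour_mul_self hV ha, kleinFour_mul_self hV hb,
      kleinFour_comm hV ha hb⟩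
    · intro h; exact h1 (Subtype.ext h)
    · intro h; exact h2 (Subtype.ext h)
    · intro h; exact h3 (Subtype.ext h)
  · obtain ⟨⟨⟨a, ha⟩, ⟨b, hb⟩⟩, h1, h2, h3⟩ := p
    apply Subtype.ext
    simp only [pairFour]
    apply fourSub_eq_of_mem V hV
    · intro h; exact h1 (Subtype.ext h)
    · intro h; exact h2 (Subtype.ext h)
    · intro h; exact h3 (Subtype.ext h)
    · exact ha
    · exact hb
  · intro p; rfl
  · intro p; rfl

/-- the number of ordered pairs of distinct commuting involutions is six times the number of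
four-subgroups -/
theorem card_invPair [Finite G] :
    Nat.card {p : G × G // IsInvPair p} = 6 * Nat.card {V : Subgroup G // IsKleinFour V} := by
  classical
  have : Fintype {V : Subgroup G // IsKleinFour V} := Fintype.ofFinite _
  rw [← Nat.card_congr (Equiv.sigmaFiberEquiv (pairFour (G := G))), Nat.card_sigma]
  simp only [card_fiber]
  rw [Finset.sum_const, Finset.card_univ, Nat.card_eq_fintype_card, smul_eq_mul, mul_comm]

/-- if all involutions are conjugate and each involution `x` commutes with exactly `|C(x)|/2`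
other involutions, then there are `|G|/2` ordered pairs of distinct commuting involutions -/
theorem two_mul_card_invPair [Finite G] (x₀ : G) (h1 : x₀ ≠ 1) (h2 : x₀ * x₀ = 1)
    (hconj : ∀ x y : G, x ≠ 1 → x * x = 1 → y ≠ 1 → y * y = 1 → IsConj x y)
    (hY : ∀ x : G, x ≠ 1 → x * x = 1 →
      2 * Nat.card {y : G // y ≠ 1 ∧ y ≠ x ∧ y * y = 1 ∧ x * y = y * x} =
        Nat.card (Subgroup.centralizer ({x} : Set G))) :
    2 * Nat.card {p : G × G // IsInvPair p} = Nat.card G := by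
  classical
  have : Fintype {x : G // x ≠ 1 ∧ x * x = 1} := Fintype.ofFinite _
  have e : {p : G × G // IsInvPair p} ≃
      Σ x : {x : G // x ≠ 1 ∧ x * x = 1}, {y : G // y ≠ 1 ∧ y ≠ x.1 ∧ y * y = 1 ∧ x.1 * y = y * x.1} :=
    { toFun := fun p => ⟨⟨p.1.1, p.2.1, p.2.2.2.2.1⟩, ⟨p.1.2, p.2.2.1, fun h => p.2.2.2.1 h.symm,
        p.2.2.2.2.2.1, p.2.2.2.2.2.2⟩⟩
      invFun := fun z => ⟨(z.1.1, z.2.1), z.1.2.1, z.2.2.1, fun h => z.2.2.2.1 h.symm, z.1.2.2,
        z.2.2.2.2.1, z.2.2.2.2.2⟩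
      left_inv := fun p => rfl
      right_inv := fun z => rfl }
  rw [Nat.card_congr e, Nat.card_sigma, Finset.mul_sum]
  have hcl : ∀ x : {x : G // x ≠ 1 ∧ x * x = 1},
      Nat.card {x : G // x ≠ 1 ∧ x * x = 1} * Nat.card (Subgroup.centralizer ({x.1} : Set G))
        = Nat.card G := by
    intro x
    have h3 : Nat.card {x : G // x ≠ 1 ∧ x * x = 1} = Nat.card {y : G // IsConj x.1 y} := by
      apply Nat.card_congr
      apply Equiv.subtypeEquivRight
      intro y
      constructor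
      · rintro ⟨hy1, hy2⟩
        exact hconj x.1 y x.2.1 x.2.2 hy1 hy2
      · intro hy
        obtain ⟨c, hc⟩ := isConj_iff.mp hy
        constructor
        · rintro rfl
          apply x.2.1
          have : c * x.1 = c := by
            have := congrArg (· * c) hc
            simpa using this
          simpa using this
        · rw [← hc]
          have := x.2.2
          calc c * x.1 * c⁻¹ * (c * x.1 * c⁻¹) = c * (x.1 * x.1) * c⁻¹ := by group
            _ = 1 := by rw [this]; group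
    rw [h3, Cfsg.Agent.Lib.Helper73.card_isConj_eq_index_centralizer, mul_comm]
    exact Subgroup.card_mul_index _
  have hpos : 0 < Nat.card {x : G // x ≠ 1 ∧ x * x = 1} :=
    Nat.card_pos_iff.mpr ⟨⟨⟨x₀, h1, h2⟩⟩, inferInstance⟩
  apply Nat.eq_of_mul_eq_mul_left hpos
  rw [Finset.mul_sum]
  have : ∀ x ∈ (Finset.univ : Finset {x : G // x ≠ 1 ∧ x * x = 1}),
      Nat.card {x : G // x ≠ 1 ∧ x * x = 1} *
        (2 * Nat.card {y : G // y ≠ 1 ∧ y ≠ x.1 ∧ y * y = 1 ∧ x.1 * y = y * x.1}) = Nat.card G := by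
    intro x _
    rw [hY x.1 x.2.1 x.2.2, hcl x]
  rw [Finset.sum_congr rfl this, Finset.sum_const, Finset.card_univ, ← Nat.card_eq_fintype_card,
    smul_eq_mul]

/-- abstract form of the count of four-groups -/
theorem twelve_mul_card_kleinFour [Finite G] (x₀ : G) (h1 : x₀ ≠ 1) (h2 : x₀ * x₀ = 1)
    (hconj : ∀ x y : G, x ≠ 1 → x * x = 1 → y ≠ 1 → y * y = 1 → IsConj x y)
    (hY : ∀ x : G, x ≠ 1 → x * x = 1 →
      2 * Nat.card {y : G // y ≠ 1 ∧ y ≠ x ∧ y * y = 1 ∧ x * y = y * x} =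
        Nat.card (Subgroup.centralizer ({x} : Set G))) :
    12 * Nat.card {V : Subgroup G // IsKleinFour V} = Nat.card G := by
  rw [← two_mul_card_invPair x₀ h1 h2 hconj hY, card_invPair]
  ring

end Cfsg.Agent.Lib.Helper47
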