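import Cfsg.Prelude.Def_DegreeGraph
import Cfsg.Agent.S2299
import Cfsg.Agent.S2300
import Cfsg.Agent.Lib.Helper46.SL2CharMaster
import Cfsg.Agent.Lib.Helper46.SL2CharCusp
import Cfsg.Agent.Lib.Helper82.CharKer

/-!
Character degrees of `SL₂(q)` and `PSL₂(q)`.
-/

set_option autoImplicit false
set_option linter.unusedSimpArgs false
set_option linter.unusedSectionVars false

namespace Cfsg.Agent.Lib.Helper47

open Matrix Cfsg Cfsg.Agent.Lib.Helper46 Cfsg.Agent.Lib.Helper82

section general

theorem charDegrees_subset_of_surjective {S : Type*} {G : Type*} [Group S] [Group G] (f : S →* G)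
    (hf : Function.Surjective f) : charDegrees G ⊆ charDegrees S := by
  rintro d ⟨χ, rfl⟩
  refine ⟨⟨fun s => (χ : G → ℂ) (f s), isIrr_comp_surj χ.2 f hf⟩, ?_⟩
  simp [charDegree]

theorem charDegrees_congr {S : Type*} {G : Type*} [Group S] [Group G] (e : S ≃* G) :
    charDegrees S = charDegrees G :=
  Set.Subset.antisymm (charDegrees_subset_of_surjective e.symm.toMonoidHom e.symm.surjective)
    (charDegrees_subset_of_surjective e.toMonoidHom e.surjective)

theorem degreePrimes_congr {S : Type*} {G : Type*} [Group S] [Group G] (e : S ≃* G) :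
    degreePrimes S = degreePrimes G := by
  unfold degreePrimes
  rw [charDegrees_congr e]

theorem charDegree_eq_of_apply_one {G : Type*} [Group G] {χ : G → ℂ} {n : ℕ} (h : χ 1 = n) :
    charDegree χ = n := by
  simp [charDegree, h]

theorem mem_charDegrees_quotient {G : Type*} [Group G] [Finite G] (N : Subgroup G) [N.Normal]
    {χ : G → ℂ} (hχ : IsIrrCharacter G χ) (hN : ∀ x ∈ N, χ x = χ 1) :
    charDegree χ ∈ charDegrees (G ⧸ N) := by
  obtain ⟨ψ, hψ, h⟩ := isIrr_deflate hχ N hN
  refine ⟨⟨ψ, hψ⟩, ?_⟩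
  have := h 1
  simp only [charDegree]
  rw [← this]
  rfl

end general

section sl2

variable {F : Type*} [Field F] [Fintype F]

theorem cd_SL2_odd_subset (hodd : Fintype.card F % 2 = 1) {d : ℕ}
    (hd : d ∈ charDegrees (SpecialLinearGroup (Fin 2) F)) :
    d = 1 ∨ d = Fintype.card F ∨ d = Fintype.card F + 1 ∨ d = Fintype.card F - 1 ∨
      d = (Fintype.card F + 1) / 2 ∨ d = (Fintype.card F - 1) / 2 := by
  obtain ⟨χ, rfl⟩ := hd
  have hq : 1 ≤ Fintype.card F := Fintype.card_pos
  rcases (Cfsg.Agent.S2299.result (F := F) (Nat.odd_iff.2 hodd)).1 χ χ.2 with h | h | h | h | h | h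
  · left; exact charDegree_eq_of_apply_one (by rw [h]; simp)
  · right; left; exact charDegree_eq_of_apply_one h
  · right; right; left; exact charDegree_eq_of_apply_one (by rw [h]; simp)
  · right; right; right; left
    exact charDegree_eq_of_apply_one (by rw [h, Nat.cast_sub hq]; simp)
  · right; right; right; right; left; exact charDegree_eq_of_apply_one h
  · right; right; right; right; right; exact charDegree_eq_of_apply_one h

theorem cd_PSL2_subset_SL2 : charDegrees (ProjectiveSpecialLinearGroup (Fin 2) F) ⊆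
    charDegrees (SpecialLinearGroup (Fin 2) F) :=
  charDegrees_subset_of_surjective (QuotientGroup.mk' _) (QuotientGroup.mk'_surjective _)

theorem center_ker_of_negOne {χ : SpecialLinearGroup (Fin 2) F → ℂ} (h : χ negOne = χ 1) :
    ∀ x ∈ Subgroup.center (SpecialLinearGroup (Fin 2) F), χ x = χ 1 := by
  intro x hx
  rcases eq_one_or_negOne_of_mem_center x hx with rfl | rfl
  · rfl
  · exact h

theorem St_negOne [DecidableEq F] : (St (F := F)) negOne = (St (F := F)) 1 := by
  have := RS_negOne_mul (1 : MulChar F ℂ) 1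
  rw [mul_one, MulChar.one_apply (by simp), one_mul] at this
  rw [St, Pi.sub_apply, Pi.sub_apply, this]
  rfl

theorem St_one [DecidableEq F] : (St (F := F)) 1 = (Fintype.card F : ℕ) := by
  rw [St, Pi.sub_apply, RS_one_apply]; simp

theorem card_mem_cd_PSL2 : Fintype.card F ∈ charDegrees (ProjectiveSpecialLinearGroup (Fin 2) F) := by
  classical
  have := mem_charDegrees_quotient (Subgroup.center (SpecialLinearGroup (Fin 2) F)) (St_irr (F := F))
    (center_ker_of_negOne St_negOne)
  rwa [charDegree_eq_of_apply_one St_one] at this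

theorem card_add_one_mem_cd_PSL2 (h5 : 5 < Fintype.card F) :
    Fintype.card F + 1 ∈ charDegrees (ProjectiveSpecialLinearGroup (Fin 2) F) := by
  classical
  have hq1 : Fintype.card F - 1 ≠ 0 := by omega
  have : NeZero (Fintype.card F - 1) := ⟨hq1⟩
  obtain ⟨β, hβ⟩ := MulChar.exists_mulChar_orderOf F (n := Fintype.card F - 1) (dvd_refl _)
    (Complex.isPrimitiveRoot_exp _ hq1)
  have hβ4 : β ^ 4 ≠ 1 := by
    intro h
    have := orderOf_dvd_of_pow_eq_one h
    rw [hβ] at this
    have := Nat.le_of_dvd (by norm_num) this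
    omega
  have hα : β ^ 2 ≠ (β ^ 2)⁻¹ := by
    intro h
    apply hβ4
    have : β ^ 2 * β ^ 2 = 1 := by
      nth_rewrite 1 [h]
      exact inv_mul_cancel _
    rw [← this, ← pow_add]
  have hm1 : (β ^ 2) (-1 : F) = 1 := by
    rw [MulChar.pow_apply' _ (by norm_num), ← map_pow]
    simp
  have h1 : RS (β ^ 2) negOne = RS (β ^ 2) 1 := by
    have := RS_negOne_mul (β ^ 2) 1
    rwa [mul_one, hm1, one_mul] at this
  have := mem_charDegrees_quotient (Subgroup.center (SpecialLinearGroup (Fin 2) F)) (RS_irr _ hα)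
    (center_ker_of_negOne h1)
  rwa [charDegree_eq_of_apply_one (n := Fintype.card F + 1) (by rw [RS_one_apply]; simp)] at this

theorem card_sub_one_mem_cd_PSL2 (hodd : Fintype.card F % 2 = 1) (h3 : 3 < Fintype.card F) :
    Fintype.card F - 1 ∈ charDegrees (ProjectiveSpecialLinearGroup (Fin 2) F) := by
  classical
  obtain ⟨X₀, h⟩ := exists_NS (F := F) hodd
  have := finite_SL2 (F := F)
  have hfin := finite_hom h.comm'
  have hcard := card_hom h.comm'
  -- some character of the torus with `η ^ 4 ≠ 1`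
  obtain ⟨η, hη⟩ : ∃ η : Subgroup.zpowers X₀ →* ℂˣ, η ^ 4 ≠ 1 := by
    by_contra hcon
    push Not at hcon
    have hmem : ∀ η : Subgroup.zpowers X₀ →* ℂˣ, η (gen X₀) ∈ rootsOfUnity 4 ℂ := by
      intro η
      rw [mem_rootsOfUnity]
      have := DFunLike.congr_fun (hcon η) (gen X₀)
      simpa using this
    have hinj : Function.Injective (fun η : Subgroup.zpowers X₀ →* ℂˣ =>
        (⟨η (gen X₀), hmem η⟩ : rootsOfUnity 4 ℂ)) := by
      intro η η' hh
      exact hom_ext_gen (congrArg Subtype.val hh)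
    have hle := Nat.card_le_card_of_injective _ hinj
    rw [hcard, h.hcard, Complex.card_rootsOfUnity] at hle
    omega
  have hθ : (η ^ 2)⁻¹ ≠ η ^ 2 := by
    intro hh
    apply hη
    apply MonoidHom.ext
    intro t
    have h6 := DFunLike.congr_fun hh t
    rw [MonoidHom.inv_apply] at h6
    have h7 : (η ^ 2) t * (η ^ 2) t = 1 := by
      nth_rewrite 1 [← h6]
      exact inv_mul_cancel _
    rw [show (4 : ℕ) = 2 + 2 from rfl, pow_add, MonoidHom.mul_apply, h7, MonoidHom.one_apply]
  have hz : (η ^ 2) (zz h) = 1 := by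
    rw [MonoidHom.pow_apply, ← map_pow, pow_two, zz_mul_self, map_one]
  have hc : Compat h (1 : MulChar F ℂ) (η ^ 2) := by
    have : (1 : MulChar F ℂ) (-1) = (((η ^ 2) (zz h) : ℂˣ) : ℂ) := by
      rw [hz, MulChar.one_apply (by simp)]; simp
    exact this
  have h1 : PI X₀ 1 (η ^ 2) negOne = PI X₀ 1 (η ^ 2) 1 := by
    have := PI_negOne_mul h hc 1
    rwa [mul_one, hz, Units.val_one, one_mul] at this
  have := mem_charDegrees_quotient (Subgroup.center (SpecialLinearGroup (Fin 2) F))
    (PI_irr h hodd hc hθ) (center_ker_of_negOne h1)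
  rwa [charDegree_eq_of_apply_one (n := Fintype.card F - 1)
    (by rw [PI_one_apply h hodd hc, card_cast_sub_one])] at this

/-- characteristic two -/
theorem cd_SL2_even [CharP F 2] (h4 : 4 ≤ Fintype.card F) :
    charDegrees (SpecialLinearGroup (Fin 2) F) =
      {1, Fintype.card F - 1, Fintype.card F, Fintype.card F + 1} := by
  have hq : 1 ≤ Fintype.card F := Fintype.card_pos
  obtain ⟨hA, hB⟩ := Cfsg.Agent.S2300.result (F := F)
  obtain ⟨h1, h2, h3, h5⟩ := hB h4
  have hev : Fintype.card F % 2 = 0 := FiniteField.even_card_of_char_two (ringChar.eq F 2)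
  ext d
  simp only [Set.mem_insert_iff, Set.mem_singleton_iff]
  constructor
  · rintro ⟨χ, rfl⟩
    rcases hA χ χ.2 with h | h | h | h
    · left; exact charDegree_eq_of_apply_one (by rw [h]; simp)
    · right; left; exact charDegree_eq_of_apply_one (by rw [h, Nat.cast_sub hq]; simp)
    · right; right; left; exact charDegree_eq_of_apply_one h
    · right; right; right; exact charDegree_eq_of_apply_one (by rw [h]; simp)
  · rintro (rfl | rfl | rfl | rfl)
    · obtain ⟨⟨χ, hχ⟩⟩ := (Nat.card_pos_iff.1 (by rw [h1]; norm_num)).1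
      exact ⟨χ, charDegree_eq_of_apply_one (by rw [hχ]; simp)⟩
    · obtain ⟨⟨χ, hχ⟩⟩ := (Nat.card_pos_iff.1 (by rw [h5]; omega)).1
      exact ⟨χ, charDegree_eq_of_apply_one (by rw [hχ, Nat.cast_sub hq]; simp)⟩
    · obtain ⟨⟨χ, hχ⟩⟩ := (Nat.card_pos_iff.1 (by rw [h2]; norm_num)).1
      exact ⟨χ, charDegree_eq_of_apply_one hχ⟩
    · obtain ⟨⟨χ, hχ⟩⟩ := (Nat.card_pos_iff.1 (by rw [h3]; omega)).1
      exact ⟨χ, charDegree_eq_of_apply_one (by rw [hχ]; simp)⟩

theorem negOne_eq_one_of_char_two [CharP F 2] : (negOne : SpecialLinearGroup (Fin 2) F) = 1 := by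
  apply ext2 <;> simp [negOne, CharTwo.neg_eq]

theorem cd_PSL2_even [CharP F 2] :
    charDegrees (ProjectiveSpecialLinearGroup (Fin 2) F) =
      charDegrees (SpecialLinearGroup (Fin 2) F) := by
  apply Set.Subset.antisymm cd_PSL2_subset_SL2
  rintro d ⟨χ, rfl⟩
  have := finite_SL2 (F := F)
  exact mem_charDegrees_quotient _ χ.2 (center_ker_of_negOne (by rw [negOne_eq_one_of_char_two]))

end sl2

end Cfsg.Agent.Lib.Helper47
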