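import Cfsg.Agent.Lib.Helper46.SL2Nonsplit
import Cfsg.Agent.Lib.Helper7.SL2Tori
import Cfsg.Agent.Lib.Helper7.CountQuad

/-!
Centralizer orders and class sizes in `SL₂(q)`.
-/

set_option autoImplicit false
set_option linter.unusedSimpArgs false

namespace Cfsg.Agent.Lib.Helper47

open Matrix Cfsg.Agent.Lib.Helper46

variable {F : Type*} [Field F]

/-- `x + y g` as an element of `SL₂` when its determinant is one -/
def linComb (g : SpecialLinearGroup (Fin 2) F) (x y : F)
    (h : x ^ 2 + tr g * x * y + y ^ 2 = 1) : SpecialLinearGroup (Fin 2) F :=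
  mk2 (x + y * (g : Matrix (Fin 2) (Fin 2) F) 0 0) (y * (g : Matrix (Fin 2) (Fin 2) F) 0 1)
    (y * (g : Matrix (Fin 2) (Fin 2) F) 1 0) (x + y * (g : Matrix (Fin 2) (Fin 2) F) 1 1) (by
    have := det2 g
    simp only [tr] at h
    linear_combination h + y ^ 2 * this)

theorem linComb_comm (g : SpecialLinearGroup (Fin 2) F) (x y : F)
    (h : x ^ 2 + tr g * x * y + y ^ 2 = 1) : linComb g x y h * g = g * linComb g x y h := by
  apply ext2 <;> simp only [linComb, mul_00, mul_01, mul_10, mul_11, mk2_00, mk2_01, mk2_10, mk2_11]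
    <;> ring

/-- the centralizer of a noncentral `g` is in bijection with the norm one elements of `F[g]` -/
theorem card_centralizer_eq (g : SpecialLinearGroup (Fin 2) F)
    (hg : g ∉ Subgroup.center (SpecialLinearGroup (Fin 2) F)) :
    Nat.card (Subgroup.centralizer ({g} : Set (SpecialLinearGroup (Fin 2) F))) =
      Nat.card {z : F × F // z.1 ^ 2 + tr g * z.1 * z.2 + z.2 ^ 2 = 1} := by
  symm
  apply Nat.card_congr
  refine Equiv.ofBijective (fun z => ⟨linComb g z.1.1 z.1.2 z.2, ?_⟩) ⟨?_, ?_⟩
  · rw [Subgroup.mem_centralizer_singleton_iff]; exact linComb_comm _ _ _ _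
  · rintro ⟨⟨x, y⟩, h⟩ ⟨⟨x', y'⟩, h'⟩ heq
    have heq' : linComb g x y h = linComb g x' y' h' := congrArg Subtype.val heq
    have e00 := congrArg (fun Z : SpecialLinearGroup (Fin 2) F =>
      (Z : Matrix (Fin 2) (Fin 2) F) 0 0) heq'
    have e01 := congrArg (fun Z : SpecialLinearGroup (Fin 2) F =>
      (Z : Matrix (Fin 2) (Fin 2) F) 0 1) heq'
    have e10 := congrArg (fun Z : SpecialLinearGroup (Fin 2) F =>
      (Z : Matrix (Fin 2) (Fin 2) F) 1 0) heq'
    have e11 := congrArg (fun Z : SpecialLinearGroup (Fin 2) F =>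
      (Z : Matrix (Fin 2) (Fin 2) F) 1 1) heq'
    simp only [linComb, mk2_00, mk2_01, mk2_10, mk2_11] at e00 e01 e10 e11
    rw [mem_center_iff2] at hg
    have hy : y = y' := by
      by_contra hne
      apply hg
      have hne' : y - y' ≠ 0 := sub_ne_zero.mpr hne
      refine ⟨?_, ?_, ?_⟩
      · have : (y - y') * (g : Matrix (Fin 2) (Fin 2) F) 0 1 = 0 := by linear_combination e01
        exact (mul_eq_zero.mp this).resolve_left hne'
      · have : (y - y') * (g : Matrix (Fin 2) (Fin 2) F) 1 0 = 0 := by linear_combination e10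
        exact (mul_eq_zero.mp this).resolve_left hne'
      · have : (y - y') * ((g : Matrix (Fin 2) (Fin 2) F) 0 0
            - (g : Matrix (Fin 2) (Fin 2) F) 1 1) = 0 := by linear_combination e00 - e11
        exact sub_eq_zero.mp ((mul_eq_zero.mp this).resolve_left hne')
    subst hy
    have hx : x = x' := by linear_combination e00
    subst hx
    rfl
  · rintro ⟨h, hh⟩
    rw [Subgroup.mem_centralizer_singleton_iff] at hh
    obtain ⟨x, y, a00, a01, a10, a11⟩ := commutant g h hg hh
    have hN : x ^ 2 + tr g * x * y + y ^ 2 = 1 := by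
      have d1 := det2 h
      have d2 := det2 g
      rw [a00, a01, a10, a11] at d1
      simp only [tr]
      linear_combination d1 - y ^ 2 * d2
    refine ⟨⟨(x, y), hN⟩, ?_⟩
    apply Subtype.ext
    apply ext2 <;> simp only [linComb, mk2_00, mk2_01, mk2_10, mk2_11, a00, a01, a10, a11]

section count
variable [Fintype F]

theorem card_normOne_nonsplit (t : F) (h : ∀ a : F, a ^ 2 - t * a + 1 ≠ 0) :
    Nat.card {z : F × F // z.1 ^ 2 + t * z.1 * z.2 + z.2 ^ 2 = 1} = Fintype.card F + 1 := by
  have hab : ∀ z₁ z₂ : F, z₁ ^ 2 + t * z₁ * z₂ + 1 * z₂ ^ 2 = 0 → z₁ = 0 ∧ z₂ = 0 := by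
    intro z₁ z₂ hz
    by_cases h2 : z₂ = 0
    · subst h2
      simp at hz
      exact ⟨hz, rfl⟩
    · exfalso
      apply h (-z₁ / z₂)
      field_simp
      linear_combination hz
  have := (Cfsg.Agent.Lib.Helper7.cnt_aniso hab).2 1 one_ne_zero
  simp only [one_mul] at this
  exact_mod_cast this

theorem card_normOne_split (a b : F) (hab : a * b = 1) (hne : a ≠ b) :
    Nat.card {z : F × F // z.1 ^ 2 + (a + b) * z.1 * z.2 + z.2 ^ 2 = 1} = Fintype.card F - 1 := by
  have hd : a - b ≠ 0 := sub_ne_zero.mpr hne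
  have e : {z : F × F // z.1 ^ 2 + (a + b) * z.1 * z.2 + z.2 ^ 2 = 1} ≃
      {p : F × F // p.1 * p.2 = 1} :=
    { toFun := fun z => ⟨(z.1.1 + a * z.1.2, z.1.1 + b * z.1.2), by
        have := z.2
        show (z.1.1 + a * z.1.2) * (z.1.1 + b * z.1.2) = 1
        linear_combination this + z.1.2 ^ 2 * hab⟩
      invFun := fun p => ⟨((a * p.1.2 - b * p.1.1) / (a - b), (p.1.1 - p.1.2) / (a - b)), by
        have := p.2
        show ((a * p.1.2 - b * p.1.1) / (a - b)) ^ 2
          + (a + b) * ((a * p.1.2 - b * p.1.1) / (a - b)) * ((p.1.1 - p.1.2) / (a - b))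
          + ((p.1.1 - p.1.2) / (a - b)) ^ 2 = 1
        field_simp
        linear_combination (a - b) ^ 2 * this - (p.1.1 - p.1.2) ^ 2 * hab⟩
      left_inv := by
        rintro ⟨⟨x, y⟩, h⟩
        simp only [Subtype.mk.injEq, Prod.mk.injEq]
        constructor <;> field_simp <;> ring
      right_inv := by
        rintro ⟨⟨u, w⟩, h⟩
        simp only [Subtype.mk.injEq, Prod.mk.injEq]
        constructor <;> field_simp <;> ring }
  rw [Nat.card_congr e]
  have := (Cfsg.Agent.Lib.Helper7.cnt_mul (F := F)).2 1 one_ne_zero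
  have hq : 1 ≤ Fintype.card F := Fintype.card_pos
  zify [hq]
  exact this

theorem card_normOne_unip (ε : F) (hε : ε ^ 2 = 1) :
    Nat.card {z : F × F // z.1 ^ 2 + (2 * ε) * z.1 * z.2 + z.2 ^ 2 = 1} =
      Fintype.card F * Nat.card {s : F // s ^ 2 = 1} := by
  have e : {z : F × F // z.1 ^ 2 + (2 * ε) * z.1 * z.2 + z.2 ^ 2 = 1} ≃
      F × {s : F // s ^ 2 = 1} :=
    { toFun := fun z => (z.1.2, ⟨z.1.1 + ε * z.1.2, by
        have := z.2
        linear_combination this + z.1.2 ^ 2 * hε⟩)
      invFun := fun p => ⟨(p.2.1 - ε * p.1, p.1), by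
        have := p.2.2
        show (p.2.1 - ε * p.1) ^ 2 + (2 * ε) * (p.2.1 - ε * p.1) * p.1 + p.1 ^ 2 = 1
        linear_combination this - p.1 ^ 2 * hε⟩
      left_inv := by
        rintro ⟨⟨x, y⟩, h⟩
        simp
      right_inv := by
        rintro ⟨y, ⟨s, h⟩⟩
        simp }
  rw [Nat.card_congr e, Nat.card_prod, Nat.card_eq_fintype_card]

omit [Fintype F] in
theorem card_sq_eq_one_of_two_eq_zero (h2 : (2 : F) = 0) : Nat.card {s : F // s ^ 2 = 1} = 1 := by
  have : Unique {s : F // s ^ 2 = 1} :=
    { default := ⟨1, by simp⟩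
      uniq := by
        rintro ⟨s, hs⟩
        apply Subtype.ext
        show s = 1
        have : (s - 1) ^ 2 = 0 := by linear_combination hs + (1 - s) * h2
        have := pow_eq_zero_iff (two_ne_zero) |>.mp this
        linear_combination this }
  exact Nat.card_unique

omit [Fintype F] in
theorem card_sq_eq_one_of_two_ne_zero (h2 : (2 : F) ≠ 0) : Nat.card {s : F // s ^ 2 = 1} = 2 := by
  rw [Nat.card_eq_two_iff]
  refine ⟨⟨1, by simp⟩, ⟨-1, by simp⟩, ?_, ?_⟩
  · intro h
    have h' : (1 : F) = -1 := congrArg Subtype.val h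
    apply h2
    linear_combination h'
  · ext ⟨s, hs⟩
    simp only [Set.mem_insert_iff, Set.mem_singleton_iff, Subtype.mk.injEq, Set.mem_univ, iff_true]
    have : (s - 1) * (s + 1) = 0 := by linear_combination hs
    rcases mul_eq_zero.mp this with h | h
    · left; linear_combination h
    · right; linear_combination h

/-- The three possible centralizer orders of a noncentral element of `SL₂(q)`. -/
theorem card_centralizer_cases (g : SpecialLinearGroup (Fin 2) F)
    (hg : g ∉ Subgroup.center (SpecialLinearGroup (Fin 2) F)) :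
    ((∀ a : F, a ^ 2 - tr g * a + 1 ≠ 0) ∧
      Nat.card (Subgroup.centralizer ({g} : Set (SpecialLinearGroup (Fin 2) F)))
        = Fintype.card F + 1) ∨
    ((∃ a : F, a ^ 2 - tr g * a + 1 = 0 ∧ a ^ 2 ≠ 1) ∧
      Nat.card (Subgroup.centralizer ({g} : Set (SpecialLinearGroup (Fin 2) F)))
        = Fintype.card F - 1) ∨
    (tr g ^ 2 = 4 ∧
      Nat.card (Subgroup.centralizer ({g} : Set (SpecialLinearGroup (Fin 2) F)))
        = Fintype.card F * Nat.card {s : F // s ^ 2 = 1}) := by
  rw [card_centralizer_eq g hg]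
  by_cases h : ∀ a : F, a ^ 2 - tr g * a + 1 ≠ 0
  · exact Or.inl ⟨h, card_normOne_nonsplit _ h⟩
  · push Not at h
    obtain ⟨a, ha⟩ := h
    have ha0 : a ≠ 0 := by
      rintro rfl
      simp at ha
    have ht : tr g = a + a⁻¹ := by
      field_simp
      linear_combination -ha
    by_cases h1 : a ^ 2 = 1
    · right; right
      have hinv : a⁻¹ = a := by
        field_simp
        linear_combination -h1
      have ht' : tr g = 2 * a := by rw [ht, hinv]; ring
      refine ⟨by rw [ht']; linear_combination 4 * h1, ?_⟩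
      rw [ht']
      exact card_normOne_unip a h1
    · right; left
      refine ⟨⟨a, ha, h1⟩, ?_⟩
      rw [ht]
      apply card_normOne_split a a⁻¹ (mul_inv_cancel₀ ha0)
      intro h'
      apply h1
      have := mul_inv_cancel₀ ha0
      rw [← h'] at this
      linear_combination this

/-- The three possible class sizes of a noncentral element of `SL₂(q)`. -/
theorem index_centralizer_cases (g : SpecialLinearGroup (Fin 2) F)
    (hg : g ∉ Subgroup.center (SpecialLinearGroup (Fin 2) F)) :
    ((∀ a : F, a ^ 2 - tr g * a + 1 ≠ 0) ∧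
      (Subgroup.centralizer ({g} : Set (SpecialLinearGroup (Fin 2) F))).index
        = Fintype.card F * (Fintype.card F - 1)) ∨
    ((∃ a : F, a ^ 2 - tr g * a + 1 = 0 ∧ a ^ 2 ≠ 1) ∧
      (Subgroup.centralizer ({g} : Set (SpecialLinearGroup (Fin 2) F))).index
        = Fintype.card F * (Fintype.card F + 1)) ∨
    (tr g ^ 2 = 4 ∧
      Nat.card {s : F // s ^ 2 = 1} *
        (Subgroup.centralizer ({g} : Set (SpecialLinearGroup (Fin 2) F))).index
        = Fintype.card F ^ 2 - 1) := by
  have hmul := (Subgroup.centralizer ({g} : Set (SpecialLinearGroup (Fin 2) F))).card_mul_index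
  rw [Cfsg.Agent.Lib.Helper7.card_SL2] at hmul
  have hq : 2 ≤ Fintype.card F := Fintype.one_lt_card
  have hsq : Fintype.card F ^ 2 - 1 = (Fintype.card F + 1) * (Fintype.card F - 1) := by
    have := Nat.sq_sub_sq (Fintype.card F) 1
    simpa using this
  rcases card_centralizer_cases g hg with ⟨h, hc⟩ | ⟨h, hc⟩ | ⟨h, hc⟩
  · left
    refine ⟨h, ?_⟩
    rw [hc, hsq] at hmul
    apply Nat.eq_of_mul_eq_mul_left (show 0 < Fintype.card F + 1 by omega)
    rw [hmul]; ring
  · right; left
    refine ⟨h, ?_⟩
    rw [hc, hsq] at hmul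
    apply Nat.eq_of_mul_eq_mul_left (show 0 < Fintype.card F - 1 by omega)
    rw [hmul]; ring
  · right; right
    refine ⟨h, ?_⟩
    rw [hc] at hmul
    apply Nat.eq_of_mul_eq_mul_left (show 0 < Fintype.card F by omega)
    rw [← hmul]; ring

end count

/-- if `t ^ 2 = 4` the polynomial `a ^ 2 - t a + 1` has a root, and all roots square to one -/
theorem root_of_sq_eq_four (t : F) (h : t ^ 2 = 4) :
    (∃ a : F, a ^ 2 - t * a + 1 = 0) ∧ ∀ a : F, a ^ 2 - t * a + 1 = 0 → a ^ 2 = 1 := by
  have h' : (t - 2) * (t + 2) = 0 := by linear_combination h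
  rcases mul_eq_zero.mp h' with h1 | h1
  · have ht : t = 2 := by linear_combination h1
    subst ht
    refine ⟨⟨1, by ring⟩, fun a ha => ?_⟩
    have : (a - 1) ^ 2 = 0 := by linear_combination ha
    have := pow_eq_zero_iff (two_ne_zero) |>.mp this
    have ha1 : a = 1 := by linear_combination this
    rw [ha1]; ring
  · have ht : t = -2 := by linear_combination h1
    subst ht
    refine ⟨⟨-1, by ring⟩, fun a ha => ?_⟩
    have : (a + 1) ^ 2 = 0 := by linear_combination ha
    have := pow_eq_zero_iff (two_ne_zero) |>.mp this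
    have ha1 : a = -1 := by linear_combination this
    rw [ha1]; ring

section direct
variable [Fintype F]

omit [Fintype F] in
theorem not_mem_center_of_nonsplit (g : SpecialLinearGroup (Fin 2) F)
    (h : ∀ a : F, a ^ 2 - tr g * a + 1 ≠ 0) :
    g ∉ Subgroup.center (SpecialLinearGroup (Fin 2) F) := by
  intro hg
  obtain ⟨⟨a, ha⟩, -⟩ := root_of_sq_eq_four _ (tr_sq_of_mem_center g hg)
  exact h a ha

omit [Fintype F] in
theorem not_mem_center_of_split (g : SpecialLinearGroup (Fin 2) F)
    (a : F) (ha : a ^ 2 - tr g * a + 1 = 0) (ha2 : a ^ 2 ≠ 1) :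
    g ∉ Subgroup.center (SpecialLinearGroup (Fin 2) F) := by
  intro hg
  exact ha2 ((root_of_sq_eq_four _ (tr_sq_of_mem_center g hg)).2 a ha)

theorem index_centralizer_of_nonsplit (g : SpecialLinearGroup (Fin 2) F)
    (h : ∀ a : F, a ^ 2 - tr g * a + 1 ≠ 0) :
    (Subgroup.centralizer ({g} : Set (SpecialLinearGroup (Fin 2) F))).index
        = Fintype.card F * (Fintype.card F - 1) := by
  rcases index_centralizer_cases g (not_mem_center_of_nonsplit g h) with
    ⟨-, hc⟩ | ⟨⟨a, ha, -⟩, -⟩ | ⟨h4, -⟩
  · exact hc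
  · exact absurd ha (h a)
  · obtain ⟨⟨a, ha⟩, -⟩ := root_of_sq_eq_four _ h4
    exact absurd ha (h a)

theorem index_centralizer_of_split (g : SpecialLinearGroup (Fin 2) F)
    (a : F) (ha : a ^ 2 - tr g * a + 1 = 0) (ha2 : a ^ 2 ≠ 1) :
    (Subgroup.centralizer ({g} : Set (SpecialLinearGroup (Fin 2) F))).index
        = Fintype.card F * (Fintype.card F + 1) := by
  rcases index_centralizer_cases g (not_mem_center_of_split g a ha ha2) with
    ⟨h, -⟩ | ⟨-, hc⟩ | ⟨h4, -⟩
  · exact absurd ha (h a)
  · exact hc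
  · exact absurd ((root_of_sq_eq_four _ h4).2 a ha) ha2

theorem index_centralizer_of_unip (g : SpecialLinearGroup (Fin 2) F)
    (hg : g ∉ Subgroup.center (SpecialLinearGroup (Fin 2) F)) (h4 : tr g ^ 2 = 4) :
    Nat.card {s : F // s ^ 2 = 1} *
        (Subgroup.centralizer ({g} : Set (SpecialLinearGroup (Fin 2) F))).index
        = Fintype.card F ^ 2 - 1 := by
  rcases index_centralizer_cases g hg with ⟨h, -⟩ | ⟨⟨a, ha, ha2⟩, -⟩ | ⟨-, hc⟩
  · obtain ⟨⟨a, ha⟩, -⟩ := root_of_sq_eq_four _ h4
    exact absurd ha (h a)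
  · exact absurd ((root_of_sq_eq_four _ h4).2 a ha) ha2
  · exact hc

end direct

/-! ### passing to `PSL₂` -/

/-- preimage in `SL₂` of the centralizer of the image of `g` in `PSL₂` -/
def Cstar (g : SpecialLinearGroup (Fin 2) F) : Subgroup (SpecialLinearGroup (Fin 2) F) :=
  (Subgroup.centralizer ({(QuotientGroup.mk g : ProjectiveSpecialLinearGroup (Fin 2) F)} :
    Set (ProjectiveSpecialLinearGroup (Fin 2) F))).comap
    (QuotientGroup.mk' (Subgroup.center (SpecialLinearGroup (Fin 2) F)))

theorem index_centralizer_mk (g : SpecialLinearGroup (Fin 2) F) :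
    (Subgroup.centralizer ({(QuotientGroup.mk g : ProjectiveSpecialLinearGroup (Fin 2) F)} :
      Set (ProjectiveSpecialLinearGroup (Fin 2) F))).index = (Cstar g).index :=
  (Subgroup.index_comap_of_surjective _ (QuotientGroup.mk'_surjective _)).symm

theorem negOne_mul_negOne : (negOne : SpecialLinearGroup (Fin 2) F) * negOne = 1 := by
  apply ext2 <;> simp [negOne, mul_00, mul_01, mul_10, mul_11]

theorem negOne_comm (x : SpecialLinearGroup (Fin 2) F) : x * negOne = negOne * x :=
  (Subgroup.mem_center_iff.mp negOne_mem_center x)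

theorem mem_Cstar (g h : SpecialLinearGroup (Fin 2) F) :
    h ∈ Cstar g ↔ h * g = g * h ∨ h * g = negOne * (g * h) := by
  rw [Cstar, Subgroup.mem_comap, Subgroup.mem_centralizer_singleton_iff]
  change (QuotientGroup.mk h * QuotientGroup.mk g : ProjectiveSpecialLinearGroup (Fin 2) F)
    = QuotientGroup.mk g * QuotientGroup.mk h ↔ _
  rw [← QuotientGroup.mk_mul, ← QuotientGroup.mk_mul, QuotientGroup.eq]
  constructor
  · intro hz
    rcases eq_one_or_negOne_of_mem_center _ hz with h1 | h1
    · left
      exact inv_mul_eq_one.mp h1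
    · right
      have h2 : g * h = h * g * negOne := by rw [← h1]; group
      rw [h2, negOne_comm, ← mul_assoc, negOne_mul_negOne, one_mul]
  · rintro (h1 | h1)
    · rw [h1]; simp
    · have : (h * g)⁻¹ * (g * h) = negOne := by
        have hi : (negOne : SpecialLinearGroup (Fin 2) F)⁻¹ = negOne :=
          inv_eq_of_mul_eq_one_left negOne_mul_negOne
        rw [h1, _root_.mul_inv_rev, hi, mul_assoc, ← negOne_comm (g * h)]
        group
      rw [this]; exact negOne_mem_center

theorem centralizer_le_Cstar (g : SpecialLinearGroup (Fin 2) F) :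
    Subgroup.centralizer ({g} : Set (SpecialLinearGroup (Fin 2) F)) ≤ Cstar g := by
  intro h hh
  rw [Subgroup.mem_centralizer_singleton_iff] at hh
  exact (mem_Cstar g h).mpr (Or.inl hh)

theorem negOne_eq_one (h2 : (2 : F) = 0) : (negOne : SpecialLinearGroup (Fin 2) F) = 1 := by
  have : (-1 : F) = 1 := by linear_combination -h2
  apply ext2 <;> simp [negOne, this]

theorem Cstar_eq (g : SpecialLinearGroup (Fin 2) F) (h : (2 : F) = 0 ∨ tr g ≠ 0) :
    Cstar g = Subgroup.centralizer ({g} : Set (SpecialLinearGroup (Fin 2) F)) := by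
  apply le_antisymm _ (centralizer_le_Cstar g)
  intro x hx
  rw [Subgroup.mem_centralizer_singleton_iff]
  rcases (mem_Cstar g x).mp hx with h1 | h1
  · exact h1
  · by_cases h2 : (2 : F) = 0
    · rw [h1, negOne_eq_one h2, one_mul]
    · exfalso
      have ht := h.resolve_left h2
      have h3 : x * g * x⁻¹ = negOne * g := by rw [h1]; group
      have h4 := tr_conj x g
      rw [h3, tr_negOne_mul] at h4
      apply ht
      have : (2 : F) * tr g = 0 := by linear_combination -h4
      exact (mul_eq_zero.mp this).resolve_left h2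

theorem Cstar_eq_top (g : SpecialLinearGroup (Fin 2) F)
    (hg : g ∈ Subgroup.center (SpecialLinearGroup (Fin 2) F)) : Cstar g = ⊤ := by
  rw [eq_top_iff]
  intro x _
  exact (mem_Cstar g x).mpr (Or.inl (Subgroup.mem_center_iff.mp hg x))

theorem two_mul_index_Cstar [Fintype F] (hodd : Fintype.card F % 2 = 1)
    (g : SpecialLinearGroup (Fin 2) F) (ht : tr g = 0) :
    2 * (Cstar g).index =
      (Subgroup.centralizer ({g} : Set (SpecialLinearGroup (Fin 2) F))).index := by
  have h2 : (2 : F) ≠ 0 := by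
    rcases parity_cases (F := F) with ⟨h, -⟩ | ⟨-, h⟩
    · exact h
    · omega
  have h4 : (0 : F) ^ 2 ≠ 4 := by
    intro h
    apply h2
    have : (2 : F) * 2 = 0 := by linear_combination -h
    exact (mul_eq_zero.mp this).elim id id
  have hgc : g ∉ Subgroup.center (SpecialLinearGroup (Fin 2) F) := by
    intro h
    have := tr_sq_of_mem_center g h
    rw [ht] at this
    exact h4 this
  have hngc : negOne * g ∉ Subgroup.center (SpecialLinearGroup (Fin 2) F) := by
    intro h
    have := tr_sq_of_mem_center _ h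
    rw [tr_negOne_mul, ht] at this
    apply h4
    linear_combination this
  obtain ⟨w, hw⟩ := conj_of_tr_eq (repAll_of_odd hodd 0 h4) g (negOne * g) hgc hngc ht
    (by rw [tr_negOne_mul, ht, neg_zero])
  have hw' : w * g = negOne * (g * w) := by
    calc w * g = (w * g * w⁻¹) * w := by group
      _ = negOne * (g * w) := by rw [hw]; group
  have hne : ∀ X : SpecialLinearGroup (Fin 2) F, negOne * X ≠ X := by
    intro X hX
    apply one_ne_negOne h2
    calc (1 : SpecialLinearGroup (Fin 2) F) = X * X⁻¹ := by group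
      _ = negOne * X * X⁻¹ := by rw [hX]
      _ = negOne := by group
  rw [← Subgroup.relIndex_mul_index (centralizer_le_Cstar g)]
  congr 1
  symm
  rw [Subgroup.relIndex, Subgroup.index_eq_two_iff]
  refine ⟨⟨w, (mem_Cstar g w).mpr (Or.inr hw')⟩, ?_⟩
  rintro ⟨b, hb⟩
  simp only [Subgroup.mem_subgroupOf, Subgroup.coe_mul, Subgroup.mem_centralizer_singleton_iff]
  rcases (mem_Cstar g b).mp hb with h1 | h1
  · right
    refine ⟨h1, ?_⟩
    intro h3
    apply hne (g * (b * w))
    rw [← h3]
    calc negOne * (b * w * g) = negOne * (b * (w * g)) := by group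
      _ = negOne * (b * (negOne * (g * w))) := by rw [hw']
      _ = negOne * ((b * negOne) * (g * w)) := by group
      _ = (negOne * negOne) * (b * g) * w := by rw [negOne_comm]; group
      _ = g * b * w := by rw [negOne_mul_negOne, h1]; group
      _ = b * w * g := by rw [h3]; group
  · left
    refine ⟨?_, ?_⟩
    · calc b * w * g = b * (w * g) := by group
        _ = b * (negOne * (g * w)) := by rw [hw']
        _ = (b * negOne) * (g * w) := by group
        _ = negOne * (b * g) * w := by rw [negOne_comm]; group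
        _ = (negOne * negOne) * (g * b) * w := by rw [h1]; group
        _ = g * (b * w) := by rw [negOne_mul_negOne]; group
    · intro h3
      apply hne (g * b)
      rw [← h1, h3]

/-! ### existence of elements of the various types -/

theorem exists_unit_order [Fintype F] : ∃ u : Fˣ, orderOf u = Fintype.card F - 1 := by
  obtain ⟨u, hu⟩ := IsCyclic.exists_ofOrder_eq_natCard (α := Fˣ)
  refine ⟨u, ?_⟩
  rw [hu, Nat.card_units, Nat.card_eq_fintype_card]

theorem dd_root (u : Fˣ) : (u : F) ^ 2 - tr (dd u) * u + 1 = 0 := by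
  rw [tr_dd]
  have : (u : F) ≠ 0 := u.ne_zero
  field_simp
  ring

theorem card_sq_eq_one_le : Nat.card {s : F // s ^ 2 = 1} ≤ 2 := by
  by_cases h2 : (2 : F) = 0
  · rw [card_sq_eq_one_of_two_eq_zero h2]; norm_num
  · rw [card_sq_eq_one_of_two_ne_zero h2]

theorem exists_nonsplit [Fintype F] : ∃ X₀ : SpecialLinearGroup (Fin 2) F,
    orderOf X₀ = Fintype.card F + 1 ∧ ∀ a : F, a ^ 2 - tr X₀ * a + 1 ≠ 0 := by
  obtain ⟨p, hchar⟩ := CharP.exists F
  have hp : Fact p.Prime := ⟨CharP.char_is_prime F p⟩
  have hq : 2 ≤ Fintype.card F := Fintype.one_lt_card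
  have := finite_SL2 (F := F)
  obtain ⟨X₀, ho, -, -⟩ := nonsplit_package (F := F) p
  refine ⟨X₀, ho, ?_⟩
  have hc : X₀ ∉ Subgroup.center (SpecialLinearGroup (Fin 2) F) := by
    intro h
    have h1 := sq_eq_one_of_mem_center X₀ h
    rw [← pow_two] at h1
    have h2 := Nat.le_of_dvd (by norm_num) (orderOf_dvd_of_pow_eq_one h1)
    omega
  have hdvd : orderOf X₀ ∣
      Nat.card (Subgroup.centralizer ({X₀} : Set (SpecialLinearGroup (Fin 2) F))) := by
    apply Subgroup.orderOf_dvd_natCard
    rw [Subgroup.mem_centralizer_singleton_iff]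
  rw [ho] at hdvd
  rcases card_centralizer_cases X₀ hc with ⟨h, -⟩ | ⟨-, h⟩ | ⟨-, h⟩
  · exact h
  · exfalso
    rw [h] at hdvd
    have := Nat.le_of_dvd (by omega) hdvd
    omega
  · exfalso
    rw [h] at hdvd
    have hco : Nat.Coprime (Fintype.card F + 1) (Fintype.card F) := by simp
    have h1 := hco.dvd_of_dvd_mul_left hdvd
    have h2 : 0 < Nat.card {s : F // s ^ 2 = 1} := by
      by_cases h2 : (2 : F) = 0
      · rw [card_sq_eq_one_of_two_eq_zero h2]; norm_num
      · rw [card_sq_eq_one_of_two_ne_zero h2]; norm_num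
    have h3 := Nat.le_of_dvd h2 h1
    have h4 := card_sq_eq_one_le (F := F)
    omega

theorem uu_not_mem_center : (uu (1 : F)) ∉ Subgroup.center (SpecialLinearGroup (Fin 2) F) := by
  rw [mem_center_iff2]
  simp [uu]

theorem tr_uu (x : F) : tr (uu x) = 2 := by
  simp only [tr, uu, mk2_00, mk2_11]; norm_num

theorem tr_ww : tr (ww : SpecialLinearGroup (Fin 2) F) = 0 := by
  simp [tr, ww]

theorem index_centralizer_of_mem_center {G : Type*} [Group G] (g : G)
    (hg : g ∈ Subgroup.center G) : (Subgroup.centralizer ({g} : Set G)).index = 1 := by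
  have : Subgroup.centralizer ({g} : Set G) = ⊤ := by
    rw [Subgroup.centralizer_eq_top_iff_subset]
    intro x hx
    rw [Set.mem_singleton_iff] at hx
    rw [hx]; exact hg
  rw [this, Subgroup.index_top]

/-- class size in `PSL₂(q)`, `q` odd, of the image of an element of trace zero -/
theorem psl_index_tr_zero [Fintype F] (hodd : Fintype.card F % 2 = 1)
    (X : SpecialLinearGroup (Fin 2) F) (ht : tr X = 0) :
    (Fintype.card F % 4 = 1 →
      (Subgroup.centralizer ({(QuotientGroup.mk X : ProjectiveSpecialLinearGroup (Fin 2) F)} :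
        Set (ProjectiveSpecialLinearGroup (Fin 2) F))).index
        = Fintype.card F * (Fintype.card F + 1) / 2) ∧
    (Fintype.card F % 4 = 3 →
      (Subgroup.centralizer ({(QuotientGroup.mk X : ProjectiveSpecialLinearGroup (Fin 2) F)} :
        Set (ProjectiveSpecialLinearGroup (Fin 2) F))).index
        = Fintype.card F * (Fintype.card F - 1) / 2) := by
  have h2 : (2 : F) ≠ 0 := by
    rcases parity_cases (F := F) with ⟨h, -⟩ | ⟨-, h⟩
    · exact h
    · omega
  have h := two_mul_index_Cstar hodd X ht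
  rw [index_centralizer_mk]
  constructor
  · intro h4
    obtain ⟨a, ha⟩ : IsSquare (-1 : F) := FiniteField.isSquare_neg_one_iff.mpr (by omega)
    have h5 := index_centralizer_of_split X a (by rw [ht]; linear_combination -ha) (by
      intro h6
      apply h2
      linear_combination -h6 - ha)
    omega
  · intro h4
    have h5 := index_centralizer_of_nonsplit X (by
      intro a ha
      have : IsSquare (-1 : F) := ⟨a, by rw [ht] at ha; linear_combination -ha⟩
      exact (FiniteField.isSquare_neg_one_iff.mp this) h4)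
    omega

end Cfsg.Agent.Lib.Helper47
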