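import Cfsg.Agent.S0809
import Cfsg.Agent.Lib.Helper47.FourCount

/-!
Commuting involutions and four-groups of `PSL₂(q)`, `q` odd.
-/

set_option autoImplicit false
set_option linter.unusedSimpArgs false

namespace Cfsg.Agent.Lib.Helper47

open Matrix Cfsg.Agent.Lib.Helper46 Cfsg.Agent.S0809

section grp
variable {G : Type*} [Group G]

theorem sgn_mul {s s' X U A : G} (hs : ∀ Z, s * Z = Z * s) (hs' : ∀ Z, s' * Z = Z * s')
    (h1 : X * A = s * (A * X)) (h2 : U * A = s' * (A * U)) :
    (X * U) * A = (s * s') * (A * (X * U)) := by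
  calc (X * U) * A = X * (U * A) := mul_assoc _ _ _
    _ = X * (s' * (A * U)) := by rw [h2]
    _ = s' * ((X * A) * U) := by rw [← mul_assoc X s', ← hs' X]; simp only [mul_assoc]
    _ = s' * ((s * (A * X)) * U) := by rw [h1]
    _ = (s * s') * (A * (X * U)) := by rw [hs s']; simp only [mul_assoc]

end grp

variable {F : Type*} [Field F]

theorem pmk_eq_iff (X Y : SpecialLinearGroup (Fin 2) F) :
    pmk X = pmk Y ↔ Y = X ∨ Y = negOne * X := by
  rw [pmk, pmk, QuotientGroup.eq]
  constructor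
  · intro h
    rcases eq_one_or_negOne_of_mem_center _ h with h1 | h1
    · left
      have := congrArg (X * ·) h1
      simpa using this
    · right
      have := congrArg (X * ·) h1
      simp only [mul_inv_cancel_left] at this
      rw [this, negOne_comm]
  · rintro (rfl | rfl)
    · simp
    · rw [← negOne_comm, inv_mul_cancel_left]
      exact negOne_mem_center

theorem exists_lift_inv (h2 : (2 : F) ≠ 0) (z : ProjectiveSpecialLinearGroup (Fin 2) F)
    (h1 : z ≠ 1) (hz : z * z = 1) :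
    ∃ Z : SpecialLinearGroup (Fin 2) F, pmk Z = z ∧ tr Z = 0 ∧ Z * Z = negOne := by
  obtain ⟨Z, rfl⟩ := QuotientGroup.mk_surjective z
  have h3 : Z * Z ∈ Subgroup.center (SpecialLinearGroup (Fin 2) F) := by
    rw [← QuotientGroup.eq_one_iff, ← hz]; rfl
  rcases eq_one_or_negOne_of_mem_center _ h3 with h4 | h4
  · exfalso
    have h5 := mem_center_of_sq_eq_one h2 Z h4
    exact h1 ((QuotientGroup.eq_one_iff _).mpr h5)
  · exact ⟨Z, rfl, tr_eq_zero_of_sq Z h4, h4⟩

theorem not_mem_center_of_tr_zero (h2 : (2 : F) ≠ 0) (X : SpecialLinearGroup (Fin 2) F)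
    (ht : tr X = 0) : X ∉ Subgroup.center (SpecialLinearGroup (Fin 2) F) := by
  intro h
  have := tr_sq_of_mem_center X h
  rw [ht] at this
  exact four_ne h2 this

theorem psl_inv_conj [Fintype F] (hodd : Fintype.card F % 2 = 1)
    (x y : ProjectiveSpecialLinearGroup (Fin 2) F) (hx1 : x ≠ 1) (hx : x * x = 1)
    (hy1 : y ≠ 1) (hy : y * y = 1) : IsConj x y := by
  have h2 : (2 : F) ≠ 0 := by
    rcases parity_cases (F := F) with ⟨h, -⟩ | ⟨-, h⟩
    · exact h
    · omega
  have hrep := repAll_of_odd hodd (0 : F) (four_ne h2)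
  obtain ⟨X', rfl, hX', -⟩ := exists_lift_inv h2 x hx1 hx
  obtain ⟨Y', rfl, hY', -⟩ := exists_lift_inv h2 y hy1 hy
  obtain ⟨P, hP⟩ := conj_of_tr_eq hrep X' Y' (not_mem_center_of_tr_zero h2 X' hX')
    (not_mem_center_of_tr_zero h2 Y' hY') hX' hY'
  rw [isConj_iff]
  refine ⟨pmk P, ?_⟩
  rw [← hP]
  rfl

theorem negOne_central (Z : SpecialLinearGroup (Fin 2) F) : negOne * Z = Z * negOne :=
  (negOne_comm Z).symm

theorem ne_negOne_mul (h2 : (2 : F) ≠ 0) (Z : SpecialLinearGroup (Fin 2) F) : Z ≠ negOne * Z := by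
  intro h
  apply one_ne_negOne h2
  have := congrArg (· * Z⁻¹) h
  simpa [mul_assoc] using this

/-- `g` lifts to a matrix anticommuting with `A` -/
def Anti (A : SpecialLinearGroup (Fin 2) F) (g : ProjectiveSpecialLinearGroup (Fin 2) F) : Prop :=
  ∃ X, pmk X = g ∧ X * A = negOne * (A * X)

/-- `g` lifts to a matrix commuting with `A` -/
def Com (A : SpecialLinearGroup (Fin 2) F) (g : ProjectiveSpecialLinearGroup (Fin 2) F) : Prop :=
  ∃ X, pmk X = g ∧ X * A = A * X

theorem mem_centralizer_pmk_iff (A : SpecialLinearGroup (Fin 2) F)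
    (g : ProjectiveSpecialLinearGroup (Fin 2) F) :
    g * pmk A = pmk A * g ↔ Com A g ∨ Anti A g := by
  obtain ⟨X, rfl⟩ := QuotientGroup.mk_surjective g
  have h := mem_Cstar A X
  rw [Cstar, Subgroup.mem_comap, Subgroup.mem_centralizer_singleton_iff] at h
  constructor
  · intro hg
    rcases h.mp hg with h1 | h1
    · exact Or.inl ⟨X, rfl, h1⟩
    · exact Or.inr ⟨X, rfl, h1⟩
  · rintro (⟨Y, hY, h1⟩ | ⟨Y, hY, h1⟩)
    · have : pmk Y * pmk A = pmk A * pmk Y := by rw [← pmk_mul, h1, pmk_mul]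
      rw [hY] at this
      exact this
    · have : pmk Y * pmk A = pmk A * pmk Y := by
        rw [← pmk_mul, h1, pmk_mul, pmk_negOne, one_mul, pmk_mul]
      rw [hY] at this
      exact this

theorem anti_com_false (h2 : (2 : F) ≠ 0) (A : SpecialLinearGroup (Fin 2) F)
    (g : ProjectiveSpecialLinearGroup (Fin 2) F) (h : Anti A g) (h' : Com A g) : False := by
  obtain ⟨X, rfl, hX⟩ := h
  obtain ⟨Y, hY, hY'⟩ := h'
  rcases (pmk_eq_iff Y X).mp hY with rfl | rfl
  · rw [hX] at hY'
    exact ne_negOne_mul h2 _ hY'.symm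
  · rw [mul_assoc, hY', negOne_central (A * (negOne * Y)), mul_assoc, mul_assoc,
      ← negOne_central Y, ← mul_assoc negOne negOne, negOne_mul_negOne, one_mul] at hX
    exact ne_negOne_mul h2 _ hX.symm

theorem Anti.mul_anti {A : SpecialLinearGroup (Fin 2) F}
    {g h : ProjectiveSpecialLinearGroup (Fin 2) F} (hg : Anti A g) (hh : Anti A h) :
    Com A (g * h) := by
  obtain ⟨X, rfl, hX⟩ := hg
  obtain ⟨Y, rfl, hY⟩ := hh
  refine ⟨X * Y, rfl, ?_⟩
  have := sgn_mul negOne_central negOne_central hX hY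
  rwa [negOne_mul_negOne, one_mul] at this

theorem Anti.mul_com {A : SpecialLinearGroup (Fin 2) F}
    {g h : ProjectiveSpecialLinearGroup (Fin 2) F} (hg : Anti A g) (hh : Com A h) :
    Anti A (g * h) := by
  obtain ⟨X, rfl, hX⟩ := hg
  obtain ⟨Y, rfl, hY⟩ := hh
  refine ⟨X * Y, rfl, ?_⟩
  have := sgn_mul (s' := 1) (U := Y) negOne_central (by simp) hX (by rw [one_mul]; exact hY)
  rwa [mul_one] at this

theorem tr_eq_zero_of_anti (h2 : (2 : F) ≠ 0) (A X : SpecialLinearGroup (Fin 2) F)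
    (h : X * A = negOne * (A * X)) : tr X = 0 := by
  have e00 := congrArg (fun Z : SpecialLinearGroup (Fin 2) F => (Z : Matrix (Fin 2) (Fin 2) F) 0 0) h
  have e01 := congrArg (fun Z : SpecialLinearGroup (Fin 2) F => (Z : Matrix (Fin 2) (Fin 2) F) 0 1) h
  have e10 := congrArg (fun Z : SpecialLinearGroup (Fin 2) F => (Z : Matrix (Fin 2) (Fin 2) F) 1 0) h
  have e11 := congrArg (fun Z : SpecialLinearGroup (Fin 2) F => (Z : Matrix (Fin 2) (Fin 2) F) 1 1) h
  simp only [mul_00, mul_01, mul_10, mul_11, negOne, mk2_00, mk2_01, mk2_10, mk2_11] at e00 e01 e10 e11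
  have hd := det2 A
  simp only [tr]
  set a := (A : Matrix (Fin 2) (Fin 2) F) 0 0
  set b := (A : Matrix (Fin 2) (Fin 2) F) 0 1
  set c := (A : Matrix (Fin 2) (Fin 2) F) 1 0
  set d := (A : Matrix (Fin 2) (Fin 2) F) 1 1
  set x := (X : Matrix (Fin 2) (Fin 2) F) 0 0
  set y := (X : Matrix (Fin 2) (Fin 2) F) 0 1
  set z := (X : Matrix (Fin 2) (Fin 2) F) 1 0
  set w := (X : Matrix (Fin 2) (Fin 2) F) 1 1
  have h3 : 2 * (x + w) = 0 := by
    linear_combination (-2 * (x + w)) * hd + d * e00 + a * e11 - c * e01 - b * e10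
  exact (mul_eq_zero.mp h3).resolve_left h2

theorem com_one (A : SpecialLinearGroup (Fin 2) F) : Com A 1 := ⟨1, rfl, by simp⟩

theorem com_self (A : SpecialLinearGroup (Fin 2) F) : Com A (pmk A) := ⟨A, rfl, rfl⟩

theorem anti_iff (h2 : (2 : F) ≠ 0) (A : SpecialLinearGroup (Fin 2) F) (hA : tr A = 0)
    (y : ProjectiveSpecialLinearGroup (Fin 2) F) :
    Anti A y ↔ y ≠ 1 ∧ y ≠ pmk A ∧ y * y = 1 ∧ pmk A * y = y * pmk A := by
  constructor
  · intro h
    refine ⟨?_, ?_, ?_, ?_⟩
    · rintro rfl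
      exact anti_com_false h2 A _ h (com_one A)
    · rintro rfl
      exact anti_com_false h2 A _ h (com_self A)
    · obtain ⟨X, rfl, hX⟩ := h
      have := pmk_sq_of_tr X (tr_eq_zero_of_anti h2 A X hX)
      rwa [pow_two] at this
    · exact ((mem_centralizer_pmk_iff A y).mpr (Or.inr h)).symm
  · rintro ⟨h1, hne, hsq, hc⟩
    rcases (mem_centralizer_pmk_iff A y).mp hc.symm with h | h
    · exfalso
      obtain ⟨X, rfl, hX⟩ := h
      obtain ⟨Z, hZ, htZ, -⟩ := exists_lift_inv h2 (pmk X) h1 hsq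
      have htX : tr X = 0 := by
        rcases (pmk_eq_iff Z X).mp hZ with rfl | rfl
        · exact htZ
        · simp only [tr, mul_00, mul_11, negOne, mk2_00, mk2_01, mk2_10, mk2_11]
          simp only [tr] at htZ
          linear_combination -htZ
      have hs : tr A ^ 2 ≠ 4 := by rw [hA]; exact four_ne h2
      rcases same_or_inv h2 A X hs hX (by rw [htX, hA]) with rfl | rfl
      · exact hne rfl
      · apply hne
        rw [inv_of_sq A (sq_of_tr_zero A hA), pmk_mul, pmk_negOne, one_mul]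
    · exact h

/-- an involution `x` of `PSL₂(q)` commutes with exactly `|C(x)|/2` further involutions -/
theorem two_mul_card_commuting_inv [Fintype F] (hodd : Fintype.card F % 2 = 1)
    (x : ProjectiveSpecialLinearGroup (Fin 2) F) (hx1 : x ≠ 1) (hx : x * x = 1) :
    2 * Nat.card {y : ProjectiveSpecialLinearGroup (Fin 2) F //
        y ≠ 1 ∧ y ≠ x ∧ y * y = 1 ∧ x * y = y * x} =
      Nat.card (Subgroup.centralizer ({x} : Set (ProjectiveSpecialLinearGroup (Fin 2) F))) := by
  classical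
  have h2 : (2 : F) ≠ 0 := by
    rcases parity_cases (F := F) with ⟨h, -⟩ | ⟨-, h⟩
    · exact h
    · omega
  have := finite_SL2 (F := F)
  have hfinG : Finite (ProjectiveSpecialLinearGroup (Fin 2) F) := Quotient.finite _
  obtain ⟨A, rfl, hA, hAA⟩ := exists_lift_inv h2 x hx1 hx
  -- an anticommuting element
  obtain ⟨B₀, hB₀⟩ : ∃ B₀ : SpecialLinearGroup (Fin 2) F, B₀ * A = negOne * (A * B₀) := by
    by_contra hcon
    push Not at hcon
    have hle : Cstar A ≤ Subgroup.centralizer ({A} : Set (SpecialLinearGroup (Fin 2) F)) := by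
      intro X hX
      rw [Subgroup.mem_centralizer_singleton_iff]
      rcases (mem_Cstar A X).mp hX with h | h
      · exact h
      · exact absurd h (hcon X)
    have h3 := Subgroup.card_le_of_le hle
    rw [card_Cstar hodd A hA] at h3
    have : 0 < Nat.card (Subgroup.centralizer ({A} : Set (SpecialLinearGroup (Fin 2) F))) :=
      Nat.card_pos
    omega
  have hy₀ : Anti A (pmk B₀) := ⟨B₀, rfl, hB₀⟩
  have hy₀sq : pmk B₀ * pmk B₀ = 1 := ((anti_iff h2 A hA _).mp hy₀).2.2.1
  have e1 : {y : ProjectiveSpecialLinearGroup (Fin 2) F //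
        y ≠ 1 ∧ y ≠ pmk A ∧ y * y = 1 ∧ pmk A * y = y * pmk A} ≃
      {y : ProjectiveSpecialLinearGroup (Fin 2) F // Anti A y} :=
    Equiv.subtypeEquivRight (fun y => (anti_iff h2 A hA y).symm)
  have e2 : {y : ProjectiveSpecialLinearGroup (Fin 2) F // Anti A y} ≃
      {y : ProjectiveSpecialLinearGroup (Fin 2) F // Com A y} :=
    { toFun := fun y => ⟨pmk B₀ * y.1, hy₀.mul_anti y.2⟩
      invFun := fun y => ⟨pmk B₀ * y.1, hy₀.mul_com y.2⟩
      left_inv := fun y => by
        apply Subtype.ext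
        show pmk B₀ * (pmk B₀ * y.1) = y.1
        rw [← mul_assoc, hy₀sq, one_mul]
      right_inv := fun y => by
        apply Subtype.ext
        show pmk B₀ * (pmk B₀ * y.1) = y.1
        rw [← mul_assoc, hy₀sq, one_mul] }
  have e3 : (Subgroup.centralizer ({pmk A} : Set (ProjectiveSpecialLinearGroup (Fin 2) F))) ≃
      {y : ProjectiveSpecialLinearGroup (Fin 2) F // Com A y ∨ Anti A y} :=
    Equiv.subtypeEquivRight (fun y => by
      rw [Subgroup.mem_centralizer_singleton_iff]
      exact mem_centralizer_pmk_iff A y)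
  have e4 : {y : ProjectiveSpecialLinearGroup (Fin 2) F // Com A y ∨ Anti A y} ≃
      {y : ProjectiveSpecialLinearGroup (Fin 2) F // Com A y} ⊕
        {y : ProjectiveSpecialLinearGroup (Fin 2) F // Anti A y} :=
    subtypeOrEquiv _ _ (by
      rw [Pi.disjoint_iff]
      intro y
      rw [Prop.disjoint_iff]
      rintro ⟨h, h'⟩
      exact anti_com_false h2 A y h' h)
  rw [Nat.card_congr e3, Nat.card_congr e4, Nat.card_sum, Nat.card_congr e1, ← Nat.card_congr e2]
  ring

/-- `12 · #{four-groups} = |PSL₂(q)|` -/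
theorem psl_twelve_mul_card_kleinFour [Fintype F] (hodd : Fintype.card F % 2 = 1) :
    12 * Nat.card {V : Subgroup (ProjectiveSpecialLinearGroup (Fin 2) F) // IsKleinFour V} =
      Nat.card (ProjectiveSpecialLinearGroup (Fin 2) F) := by
  have h2 : (2 : F) ≠ 0 := by
    rcases parity_cases (F := F) with ⟨h, -⟩ | ⟨-, h⟩
    · exact h
    · omega
  have := finite_SL2 (F := F)
  have hfinG : Finite (ProjectiveSpecialLinearGroup (Fin 2) F) := Quotient.finite _
  apply twelve_mul_card_kleinFour (pmk ww)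
  · exact pmk_ne_one_of_not_mem _ (not_mem_center_of_tr_zero h2 _ tr_ww)
  · have := pmk_sq_of_tr (ww : SpecialLinearGroup (Fin 2) F) tr_ww
    rwa [pow_two] at this
  · intro x y hx1 hx hy1 hy
    exact psl_inv_conj hodd x y hx1 hx hy1 hy
  · intro x hx1 hx
    exact two_mul_card_commuting_inv hodd x hx1 hx

end Cfsg.Agent.Lib.Helper47
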