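import Cfsg.Agent.Lib.Helper46.SL2Order

/-!
Orders of elements of `PSL₂` read off from the trace.
-/

set_option autoImplicit false
set_option linter.unusedSimpArgs false

namespace Cfsg.Agent.Lib.Helper47

open Matrix Cfsg.Agent.Lib.Helper46

variable {F : Type*} [Field F]

/-- the projection `SL₂ → PSL₂` -/
abbrev pmk (X : SpecialLinearGroup (Fin 2) F) : ProjectiveSpecialLinearGroup (Fin 2) F :=
  QuotientGroup.mk X

theorem pmk_mul (X Y : SpecialLinearGroup (Fin 2) F) : pmk (X * Y) = pmk X * pmk Y := rfl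

theorem pmk_negOne : pmk (negOne : SpecialLinearGroup (Fin 2) F) = 1 :=
  (QuotientGroup.eq_one_iff _).mpr negOne_mem_center

theorem pmk_one : pmk (1 : SpecialLinearGroup (Fin 2) F) = 1 := rfl

theorem pmk_ne_one_of_tr_sq (X : SpecialLinearGroup (Fin 2) F) (h : tr X ^ 2 ≠ 4) :
    pmk X ≠ 1 := by
  intro h1
  exact h (tr_sq_of_mem_center X ((QuotientGroup.eq_one_iff _).mp h1))

theorem pmk_ne_one_of_not_mem (X : SpecialLinearGroup (Fin 2) F)
    (h : X ∉ Subgroup.center (SpecialLinearGroup (Fin 2) F)) : pmk X ≠ 1 := by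
  intro h1
  exact h ((QuotientGroup.eq_one_iff _).mp h1)

/-- `X² = t X - 1`, entrywise consequences: `X³ = (t² - 1) X - t`. -/
theorem cube_entries (X : SpecialLinearGroup (Fin 2) F) :
    ((X * X * X : SpecialLinearGroup (Fin 2) F) : Matrix (Fin 2) (Fin 2) F)
      = (tr X ^ 2 - 1) • (X : Matrix (Fin 2) (Fin 2) F) - tr X • (1 : Matrix (Fin 2) (Fin 2) F) := by
  rw [Matrix.SpecialLinearGroup.coe_mul, Matrix.SpecialLinearGroup.coe_mul, cayley, sub_mul,
    one_mul, smul_mul_assoc, cayley]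
  ext i j
  simp only [Matrix.sub_apply, Matrix.smul_apply, smul_eq_mul]
  ring

theorem cube_of_tr_one (X : SpecialLinearGroup (Fin 2) F) (h : tr X = 1) :
    X * X * X = negOne := by
  apply Subtype.ext
  rw [cube_entries, h]
  ext i j
  fin_cases i <;> fin_cases j <;> simp [negOne, mk2]

theorem cube_of_tr_neg_one (X : SpecialLinearGroup (Fin 2) F) (h : tr X = -1) :
    X * X * X = 1 := by
  apply Subtype.ext
  rw [cube_entries, h]
  ext i j
  fin_cases i <;> fin_cases j <;> simp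

theorem pmk_sq_of_tr (X : SpecialLinearGroup (Fin 2) F) (h : tr X = 0) : pmk X ^ 2 = 1 := by
  rw [pow_two, ← pmk_mul, sq_of_tr_zero X h, pmk_negOne]

theorem pmk_cube_of_tr (X : SpecialLinearGroup (Fin 2) F) (h : tr X = 1 ∨ tr X = -1) :
    pmk X ^ 3 = 1 := by
  rw [pow_succ, pow_two, ← pmk_mul, ← pmk_mul]
  rcases h with h | h
  · rw [cube_of_tr_one X h, pmk_negOne]
  · rw [cube_of_tr_neg_one X h, pmk_one]

theorem tr_mul (X Y : SpecialLinearGroup (Fin 2) F) : tr (X * Y) =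
    (X : Matrix (Fin 2) (Fin 2) F) 0 0 * (Y : Matrix (Fin 2) (Fin 2) F) 0 0 +
    (X : Matrix (Fin 2) (Fin 2) F) 0 1 * (Y : Matrix (Fin 2) (Fin 2) F) 1 0 +
    ((X : Matrix (Fin 2) (Fin 2) F) 1 0 * (Y : Matrix (Fin 2) (Fin 2) F) 0 1 +
    (X : Matrix (Fin 2) (Fin 2) F) 1 1 * (Y : Matrix (Fin 2) (Fin 2) F) 1 1) := by
  simp only [tr, mul_00, mul_11]

theorem tr_mk2 (a b c d : F) (h : a * d - b * c = 1) : tr (mk2 a b c d h) = a + d := rfl

theorem tr_mk2_mul (a b c d a' b' c' d' : F) (h : a * d - b * c = 1) (h' : a' * d' - b' * c' = 1) :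
    tr (mk2 a b c d h * mk2 a' b' c' d' h') = a * a' + b * c' + (c * b' + d * d') := by
  rw [tr_mul]; rfl

end Cfsg.Agent.Lib.Helper47
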