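import Cfsg.Agent.Lib.Helper47.Polyhedral
import Cfsg.Agent.Lib.Helper47.SL2Trace
import Cfsg.Agent.Lib.Helper59.SL2
import Cfsg.Agent.Lib.Helper7.SL2

/-!
The quaternion model of `SL₂(F)` (given `x² + y² = -1`) and the polyhedral subgroups
`A₄`, `S₄`, `A₅` of `PSL₂(F)`.
-/

set_option autoImplicit false
set_option linter.unusedSimpArgs false

namespace Cfsg.Agent.Lib.Helper47

open Matrix Cfsg.Agent.Lib.Helper46

variable {F : Type*} [Field F]

/-- the unit quaternion `a + b i + c j + d k` as an element of `SL₂(F)` -/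
def quat (x y : F) (hxy : x ^ 2 + y ^ 2 = -1) (a b c d : F)
    (h : a ^ 2 + b ^ 2 + c ^ 2 + d ^ 2 = 1) : SpecialLinearGroup (Fin 2) F :=
  mk2 (a + c * x + d * y) (b + c * y - d * x) (-b + c * y - d * x) (a - c * x - d * y)
    (by linear_combination h - (c ^ 2 + d ^ 2) * hxy)

theorem tr_quat (x y : F) (hxy : x ^ 2 + y ^ 2 = -1) (a b c d : F)
    (h : a ^ 2 + b ^ 2 + c ^ 2 + d ^ 2 = 1) : tr (quat x y hxy a b c d h) = 2 * a := by
  rw [quat, tr_mk2]; ring

theorem tr_quat_mul (x y : F) (hxy : x ^ 2 + y ^ 2 = -1) (a b c d a' b' c' d' : F)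
    (h : a ^ 2 + b ^ 2 + c ^ 2 + d ^ 2 = 1) (h' : a' ^ 2 + b' ^ 2 + c' ^ 2 + d' ^ 2 = 1) :
    tr (quat x y hxy a b c d h * quat x y hxy a' b' c' d' h')
      = 2 * (a * a' - b * b' - c * c' - d * d') := by
  rw [quat, quat, tr_mk2_mul]
  linear_combination 2 * (c * c' + d * d') * hxy

/-- `A₄ ≤ PSL₂(F)` whenever `-1` is a sum of two squares and `2 ≠ 0`. -/
theorem exists_A4_of_quat (h2 : (2 : F) ≠ 0) (x y : F) (hxy : x ^ 2 + y ^ 2 = -1) :
    ∃ f : alternatingGroup (Fin 4) →* ProjectiveSpecialLinearGroup (Fin 2) F,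
      Function.Injective f := by
  have hX0 : (1 / 2 : F) ^ 2 + (1 / 2) ^ 2 + (1 / 2) ^ 2 + (1 / 2) ^ 2 = 1 := by
    field_simp; norm_num
  have hX1 : (0 : F) ^ 2 + 1 ^ 2 + 0 ^ 2 + 0 ^ 2 = 1 := by ring
  obtain ⟨f, hf, -⟩ := exists_injective_hom_A4
    (pmk (quat x y hxy (1 / 2) (1 / 2) (1 / 2) (1 / 2) hX0)) (pmk (quat x y hxy 0 1 0 0 hX1))
    (pmk_cube_of_tr _ (Or.inl (by rw [tr_quat]; field_simp)))
    (pmk_sq_of_tr _ (by rw [tr_quat]; ring))
    (pmk_cube_of_tr _ (Or.inr (by rw [tr_quat_mul]; field_simp; ring)))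
    (pmk_ne_one_of_tr_sq _ (by
      rw [tr_quat]
      intro h
      apply h2
      have : (2 : F) * 2 = 0 := by linear_combination -h
      exact (mul_eq_zero.mp this).elim id id))
  exact ⟨f, hf⟩

/-- `S₄ ≤ PSL₂(F)` whenever `-1` is a sum of two squares, `2 ≠ 0` and `2` is a square. -/
theorem exists_S4_of_quat (h2 : (2 : F) ≠ 0) (x y : F) (hxy : x ^ 2 + y ^ 2 = -1)
    (r : F) (hr : r ^ 2 = 2) :
    ∃ f : Equiv.Perm (Fin 4) →* ProjectiveSpecialLinearGroup (Fin 2) F,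
      Function.Injective f := by
  have hr0 : r ≠ 0 := by
    rintro rfl
    apply h2
    rw [← hr]; ring
  have hri : (1 / r) ^ 2 = 1 / 2 := by
    field_simp
    exact hr.symm
  have hS1 : (0 : F) ^ 2 + (1 / r) ^ 2 + (1 / r) ^ 2 + 0 ^ 2 = 1 := by
    rw [hri]; field_simp; norm_num
  have hS2 : (0 : F) ^ 2 + 0 ^ 2 + (1 / r) ^ 2 + (1 / r) ^ 2 = 1 := by
    rw [hri]; field_simp; norm_num
  have hS3 : (0 : F) ^ 2 + (1 / r) ^ 2 + (-(1 / r)) ^ 2 + 0 ^ 2 = 1 := by
    rw [neg_sq, hri]; field_simp; norm_num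
  have hh : (2 : F) * (1 / 2) = 1 := by field_simp
  obtain ⟨f, hf, -⟩ := exists_injective_hom_S4
    (pmk (quat x y hxy 0 (1 / r) (1 / r) 0 hS1)) (pmk (quat x y hxy 0 0 (1 / r) (1 / r) hS2))
    (pmk (quat x y hxy 0 (1 / r) (-(1 / r)) 0 hS3))
    (pmk_sq_of_tr _ (by rw [tr_quat]; ring))
    (pmk_sq_of_tr _ (by rw [tr_quat]; ring))
    (pmk_sq_of_tr _ (by rw [tr_quat]; ring))
    (pmk_cube_of_tr _ (Or.inr (by rw [tr_quat_mul]; linear_combination -2 * hri - hh)))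
    (pmk_cube_of_tr _ (Or.inl (by rw [tr_quat_mul]; linear_combination 2 * hri + hh)))
    (pmk_sq_of_tr _ (by rw [tr_quat_mul]; ring))
    (pmk_ne_one_of_tr_sq _ (by
      rw [tr_quat_mul]
      intro h
      apply h2
      have : (2 : F) * 2 = 0 := by linear_combination -h
      exact (mul_eq_zero.mp this).elim id id))
  exact ⟨f, hf⟩

/-- `A₅ ≤ PSL₂(F)` whenever `-1` is a sum of two squares, `2 ≠ 0` and `F` contains the golden
ratio. -/
theorem exists_A5_of_quat (h2 : (2 : F) ≠ 0) (x y : F) (hxy : x ^ 2 + y ^ 2 = -1)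
    (t : F) (ht : t ^ 2 = t + 1) :
    ∃ f : alternatingGroup (Fin 5) →* ProjectiveSpecialLinearGroup (Fin 2) F,
      Function.Injective f := by
  have hX0 : (1 / 2 : F) ^ 2 + (1 / 2) ^ 2 + (-(1 / 2)) ^ 2 + (-(1 / 2)) ^ 2 = 1 := by
    field_simp; norm_num
  have hX1 : (0 : F) ^ 2 + 1 ^ 2 + 0 ^ 2 + 0 ^ 2 = 1 := by ring
  have hX2 : (0 : F) ^ 2 + (1 / 2) ^ 2 + ((1 - t) / 2) ^ 2 + (t / 2) ^ 2 = 1 := by
    field_simp
    linear_combination 2 * ht
  obtain ⟨f, hf, -⟩ := exists_injective_hom_A5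
    (pmk (quat x y hxy (1 / 2) (1 / 2) (-(1 / 2)) (-(1 / 2)) hX0))
    (pmk (quat x y hxy 0 1 0 0 hX1))
    (pmk (quat x y hxy 0 (1 / 2) ((1 - t) / 2) (t / 2) hX2))
    (pmk_cube_of_tr _ (Or.inl (by rw [tr_quat]; field_simp)))
    (pmk_sq_of_tr _ (by rw [tr_quat]; ring))
    (pmk_sq_of_tr _ (by rw [tr_quat]; ring))
    (pmk_cube_of_tr _ (Or.inr (by rw [tr_quat_mul]; field_simp; ring)))
    (pmk_cube_of_tr _ (Or.inr (by rw [tr_quat_mul]; field_simp; ring)))
    (pmk_sq_of_tr _ (by rw [tr_quat_mul]; field_simp; ring))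
    (pmk_ne_one_of_tr_sq _ (by
      rw [tr_quat]
      intro h
      apply h2
      have : (2 : F) * 2 = 0 := by linear_combination -h
      exact (mul_eq_zero.mp this).elim id id))
  exact ⟨f, hf⟩

/-- `A₅ ≤ PSL₂(F)` in characteristic two when `F` contains a primitive cube root of unity. -/
theorem exists_A5_of_char_two (h2 : (2 : F) = 0) (t : F) (ht : t ^ 2 = t + 1) :
    ∃ f : alternatingGroup (Fin 5) →* ProjectiveSpecialLinearGroup (Fin 2) F,
      Function.Injective f := by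
  obtain ⟨f, hf, -⟩ := exists_injective_hom_A5
    (pmk (mk2 0 1 1 1 (by linear_combination -h2)))
    (pmk (mk2 0 t (t + 1) 0 (by linear_combination -ht - (t + 1) * h2)))
    (pmk (mk2 (0 : F) 1 1 0 (by linear_combination -h2)))
    (pmk_cube_of_tr _ (Or.inl (by rw [tr_mk2]; ring)))
    (pmk_sq_of_tr _ (by rw [tr_mk2]; ring))
    (pmk_sq_of_tr _ (by rw [tr_mk2]; ring))
    (pmk_cube_of_tr _ (Or.inl (by rw [tr_mk2_mul]; linear_combination t * h2)))
    (pmk_cube_of_tr _ (Or.inl (by rw [tr_mk2_mul]; linear_combination t * h2)))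
    (pmk_sq_of_tr _ (by rw [tr_mk2_mul]; linear_combination h2))
    (pmk_ne_one_of_not_mem _ (by
      rw [mem_center_iff2]
      simp only [mk2_00, mk2_01, mk2_10, mk2_11]
      rintro ⟨h01, -, -⟩
      rw [h01] at ht
      simp at ht))
  exact ⟨f, hf⟩

/-! ### powers of a matrix of determinant one -/

theorem pow_step (X : SpecialLinearGroup (Fin 2) F) (n : ℕ) (u v : F)
    (h : (X : Matrix (Fin 2) (Fin 2) F) ^ n
      = u • (X : Matrix (Fin 2) (Fin 2) F) - v • (1 : Matrix (Fin 2) (Fin 2) F)) :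
    (X : Matrix (Fin 2) (Fin 2) F) ^ (n + 1)
      = (u * tr X - v) • (X : Matrix (Fin 2) (Fin 2) F) - u • (1 : Matrix (Fin 2) (Fin 2) F) := by
  rw [pow_succ, h, sub_mul, smul_mul_assoc, smul_mul_assoc, one_mul, cayley]
  ext i j
  simp only [Matrix.sub_apply, Matrix.smul_apply, smul_eq_mul]
  ring

theorem pow_five (X : SpecialLinearGroup (Fin 2) F) :
    (X : Matrix (Fin 2) (Fin 2) F) ^ 5
      = (tr X ^ 4 - 3 * tr X ^ 2 + 1) • (X : Matrix (Fin 2) (Fin 2) F)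
        - (tr X ^ 3 - 2 * tr X) • (1 : Matrix (Fin 2) (Fin 2) F) := by
  have h1 : (X : Matrix (Fin 2) (Fin 2) F) ^ 1
      = (1 : F) • (X : Matrix (Fin 2) (Fin 2) F) - (0 : F) • (1 : Matrix (Fin 2) (Fin 2) F) := by
    simp
  have h5 := pow_step X _ _ _ (pow_step X _ _ _ (pow_step X _ _ _ (pow_step X _ _ _ h1)))
  rw [h5]
  congr 1 <;> congr 1 <;> ring

/-- an element of order five of `SL₂` has trace `t` with `t² + t - 1 = 0` -/
theorem tr_of_pow_five (X : SpecialLinearGroup (Fin 2) F) (h5 : X ^ 5 = 1) (h1 : X ≠ 1) :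
    tr X ^ 2 + tr X - 1 = 0 := by
  have hc : X ∉ Subgroup.center (SpecialLinearGroup (Fin 2) F) := by
    intro hc
    apply h1
    have h2 := sq_eq_one_of_mem_center X hc
    calc X = X ^ 5 * ((X * X)⁻¹ * (X * X)⁻¹) := by group
      _ = 1 := by rw [h5, h2]; simp
  have hm : (X : Matrix (Fin 2) (Fin 2) F) ^ 5 = 1 := by
    rw [← Matrix.SpecialLinearGroup.coe_pow, h5]; rfl
  rw [pow_five] at hm
  have e00 := congrFun (congrFun hm 0) 0
  have e01 := congrFun (congrFun hm 0) 1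
  have e10 := congrFun (congrFun hm 1) 0
  have e11 := congrFun (congrFun hm 1) 1
  simp only [Matrix.sub_apply, Matrix.smul_apply, smul_eq_mul, Matrix.one_apply_eq,
    Matrix.one_apply_ne (show (0 : Fin 2) ≠ 1 by decide),
    Matrix.one_apply_ne (show (1 : Fin 2) ≠ 0 by decide)] at e00 e01 e10 e11
  have hu : tr X ^ 4 - 3 * tr X ^ 2 + 1 = 0 := by
    by_contra hu
    apply hc
    rw [mem_center_iff2]
    refine ⟨?_, ?_, ?_⟩
    · have : (tr X ^ 4 - 3 * tr X ^ 2 + 1) * (X : Matrix (Fin 2) (Fin 2) F) 0 1 = 0 := by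
        linear_combination e01
      exact (mul_eq_zero.mp this).resolve_left hu
    · have : (tr X ^ 4 - 3 * tr X ^ 2 + 1) * (X : Matrix (Fin 2) (Fin 2) F) 1 0 = 0 := by
        linear_combination e10
      exact (mul_eq_zero.mp this).resolve_left hu
    · have : (tr X ^ 4 - 3 * tr X ^ 2 + 1) * ((X : Matrix (Fin 2) (Fin 2) F) 0 0
          - (X : Matrix (Fin 2) (Fin 2) F) 1 1) = 0 := by
        linear_combination e00 - e11
      exact sub_eq_zero.mp ((mul_eq_zero.mp this).resolve_left hu)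
  have hv : (tr X - 1) * (tr X ^ 2 + tr X - 1) = 0 := by
    rw [hu] at e00
    linear_combination -e00
  rcases mul_eq_zero.mp hv with h | h
  · exfalso
    have ht : tr X = 1 := by linear_combination h
    rw [ht] at hu
    norm_num at hu
  · exact h

theorem exists_golden [Fintype F] (h : 5 ∣ Fintype.card F * (Fintype.card F ^ 2 - 1)) :
    ∃ t : F, t ^ 2 = t + 1 := by
  have : Finite (SpecialLinearGroup (Fin 2) F) :=
    Finite.of_injective (fun A : SpecialLinearGroup (Fin 2) F => (A : Matrix (Fin 2) (Fin 2) F))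
      Subtype.val_injective
  have hp : Fact (Nat.Prime 5) := ⟨by norm_num⟩
  obtain ⟨X, hX⟩ := exists_prime_orderOf_dvd_card' (G := SpecialLinearGroup (Fin 2) F) 5
    (by rw [Cfsg.Agent.Lib.Helper7.card_SL2]; exact h)
  have h5 : X ^ 5 = 1 := by rw [← hX]; exact pow_orderOf_eq_one X
  have h1 : X ≠ 1 := by
    rintro rfl
    simp at hX
  refine ⟨-tr X, ?_⟩
  linear_combination tr_of_pow_five X h5 h1

end Cfsg.Agent.Lib.Helper47
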